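/-
The standing set-up of split rank one groups in characteristic two: first consequences.
-/
import Cfsg.Prelude.Def_LieRecognition
import Cfsg.Agent.Lib.Involutions
import Mathlib.GroupTheory.Sylow

set_option autoImplicit false
set_option linter.unusedSectionVars false

namespace CfsgLib.RankOne

open MulAction Cfsg

variable {G Ω : Type*} [Group G] [Finite G] [MulAction G Ω] {a : Ω} {t : G} {Q : Subgroup G}
  (hS : IsRankOneSetup G Ω a t Q)

/-- The two-point stabiliser. -/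
abbrev D (a : Ω) (t : G) : Subgroup G := stabilizer G a ⊓ stabilizer G (t • a)

include hS

theorem inv_t : t⁻¹ = t := inv_eq_of_mul_eq_one_right hS.mul_self

theorem smul_smul_t (c : Ω) : t • t • c = c := by rw [smul_smul, hS.mul_self, one_smul]

theorem ta_ne : t • a ≠ a := fun e => hS.not_mem (mem_stabilizer_iff.mpr e)

theorem two_pt {p q p' q' : Ω} (h : p ≠ q) (h' : p' ≠ q') : ∃ g : G, g • p = p' ∧ g • q = q' :=
  is_two_pretransitive_iff.mp hS.two_transitive h h'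

theorem mem_Q_a {x : G} (hx : x ∈ Q) : x • a = a := mem_stabilizer_iff.mp (hS.le hx)

theorem mem_D {d : G} : d ∈ D a t ↔ d • a = a ∧ d • t • a = t • a := by
  simp [D, Subgroup.mem_inf]

theorem D_le : D a t ≤ stabilizer G a := inf_le_left

theorem conj_Q {h x : G} (hh : h • a = a) (hx : x ∈ Q) : h * x * h⁻¹ ∈ Q :=
  hS.conj_mem h (mem_stabilizer_iff.mpr hh) x hx

theorem conj_Q' {h x : G} (hh : h • a = a) (hx : x ∈ Q) : h⁻¹ * x * h ∈ Q := by
  have := conj_Q hS (h := h⁻¹) (by rw [inv_smul_eq_iff, hh]) hx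
  rwa [inv_inv] at this

theorem eq_one_of_fix_ta {x : G} (hx : x ∈ Q) (h : x • t • a = t • a) : x = 1 := by
  have : x ∈ Q ⊓ stabilizer G (t • a) := Subgroup.mem_inf.mpr ⟨hx, mem_stabilizer_iff.mpr h⟩
  rwa [hS.inf_eq_bot, Subgroup.mem_bot] at this

theorem exists_decomp {g : G} (hg : g • a = a) : ∃ x ∈ Q, ∃ d ∈ D a t, g = x * d := by
  have hg' : g ∈ Q ⊔ D a t := by rw [hS.sup_eq]; exact mem_stabilizer_iff.mpr hg
  have hle : D a t ≤ Subgroup.normalizer (Q : Set G) := by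
    intro d hd
    rw [Subgroup.mem_normalizer_iff]
    intro y
    have hda := ((mem_D hS).mp hd).1
    refine ⟨fun hy => conj_Q hS hda hy, fun hy => ?_⟩
    have := conj_Q' hS hda hy
    rwa [show d⁻¹ * (d * y * d⁻¹) * d = y by group] at this
  rw [← SetLike.mem_coe, Subgroup.coe_mul_of_right_le_normalizer_left _ _ hle] at hg'
  obtain ⟨x, hx, d, hd, rfl⟩ := Set.mem_mul.mp hg'
  exact ⟨x, hx, d, hd, rfl⟩

theorem exists_Q_ta {c : Ω} (hc : c ≠ a) : ∃ x ∈ Q, x • t • a = c := by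
  obtain ⟨g, hg1, hg2⟩ := two_pt hS (ta_ne hS).symm hc.symm
  obtain ⟨x, hx, d, hd, rfl⟩ := exists_decomp hS hg1
  exact ⟨x, hx, by rwa [mul_smul, ((mem_D hS).mp hd).2] at hg2⟩

theorem Q_ta_inj {x y : G} (hx : x ∈ Q) (hy : y ∈ Q) (h : x • t • a = y • t • a) : x = y := by
  have : (y⁻¹ * x) • t • a = t • a := by rw [mul_smul, h, inv_smul_smul]
  exact (inv_mul_eq_one.mp (eq_one_of_fix_ta hS (mul_mem (inv_mem hy) hx) this)).symm

theorem exists_unique_Q {b c : Ω} (hb : b ≠ a) (hc : c ≠ a) : ∃! x : Q, (x : G) • b = c := by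
  obtain ⟨y, hy, rfl⟩ := exists_Q_ta hS hb
  obtain ⟨z, hz, rfl⟩ := exists_Q_ta hS hc
  refine ⟨⟨z * y⁻¹, mul_mem hz (inv_mem hy)⟩, by
    show (z * y⁻¹) • y • t • a = z • t • a
    rw [mul_smul, inv_smul_smul], ?_⟩
  rintro ⟨x, hx⟩ h
  have h' : (x * y) • t • a = z • t • a := by rw [mul_smul]; exact h
  exact Subtype.ext (eq_mul_inv_of_mul_eq (Q_ta_inj hS (mul_mem hx hy) hz h'))

theorem eq_one_of_fix {x : G} (hx : x ∈ Q) {c : Ω} (hc : c ≠ a) (h : x • c = c) : x = 1 := by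
  obtain ⟨u, hu, hu'⟩ := exists_unique_Q hS hc hc
  have h1 := hu' ⟨x, hx⟩ h
  have h2 := hu' 1 (one_smul G c)
  exact congrArg Subtype.val (h1.trans h2.symm)

/-- Uniqueness of the normal form. -/
theorem form_unique {p p' y y' : G} (hp : p • a = a) (hp' : p' • a = a) (hy : y ∈ Q) (hy' : y' ∈ Q)
    (h : p * t * y = p' * t * y') : p = p' ∧ y = y' := by
  have h1 : (y * y'⁻¹) • t • a = t • a := by
    have e : y * y'⁻¹ = t * (p⁻¹ * p') * t := by
      rw [show p⁻¹ * p' = p⁻¹ * (p' * t * y') * y'⁻¹ * t⁻¹ by group, ← h, inv_t hS]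
      simp [mul_assoc, hS.mul_self, ← mul_assoc t t]
    rw [e, mul_smul, smul_smul_t hS, mul_smul, mul_smul, hp', inv_smul_eq_iff.mpr hp.symm]
  have h2 : y = y' := mul_inv_eq_one.mp (eq_one_of_fix_ta hS (mul_mem hy (inv_mem hy')) h1)
  subst h2
  exact ⟨mul_right_cancel (mul_right_cancel h), rfl⟩

theorem exists_form {g : G} (hg : g • a ≠ a) : ∃ p y, p • a = a ∧ y ∈ Q ∧ g = p * t * y := by
  have hg' : g⁻¹ • a ≠ a := fun e => hg (inv_smul_eq_iff.mp e).symm
  obtain ⟨x, hx, hxe⟩ := exists_Q_ta hS hg'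
  refine ⟨g * x * t, x⁻¹, ?_, inv_mem hx, ?_⟩
  · rw [mul_smul, mul_smul, hxe, smul_inv_smul]
  · simp [mul_assoc, ← mul_assoc t t, hS.mul_self]

/-- The points as the elements of `Q` and the fixed point. -/
noncomputable def optEquiv : Option Q ≃ Ω := by
  classical
  exact Equiv.ofBijective (fun o => o.elim a fun x : Q => (x : G) • t • a) ⟨fun o o' h => by
    have hne : ∀ x : Q, (x : G) • t • a ≠ a := fun x e => by
      rw [← mem_Q_a hS x.2, smul_left_cancel_iff, mem_Q_a hS x.2] at e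
      exact ta_ne hS e
    rcases o with _ | x <;> rcases o' with _ | y <;> simp only [Option.elim_none, Option.elim_some] at h
    · rfl
    · exact absurd h.symm (hne y)
    · exact absurd h (hne x)
    · exact congrArg some (Subtype.ext (Q_ta_inj hS x.2 y.2 h)), fun c => by
    by_cases hc : c = a
    · exact ⟨none, hc.symm⟩
    · obtain ⟨x, hx, e⟩ := exists_Q_ta hS hc
      exact ⟨some ⟨x, hx⟩, e⟩⟩

theorem finite_points : Finite Ω := Finite.of_equiv _ (optEquiv hS)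

theorem card_points : Nat.card Ω = Nat.card Q + 1 := by
  rw [← Nat.card_congr (optEquiv hS), Finite.card_option]

theorem pretransitive : IsPretransitive G Ω := by
  refine ⟨fun p q => ?_⟩
  haveI : Nontrivial Ω := ⟨⟨t • a, a, ta_ne hS⟩⟩
  obtain ⟨p', hp'⟩ := exists_ne p
  obtain ⟨q', hq'⟩ := exists_ne q
  obtain ⟨g, hg, -⟩ := two_pt hS hp'.symm hq'.symm
  exact ⟨g, hg⟩

theorem card_stab : Nat.card (stabilizer G a) = Nat.card Q * Nat.card (D a t) := by
  rw [← Nat.card_prod]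
  refine (Nat.card_congr (Equiv.ofBijective (fun p : Q × D a t => (⟨p.1 * p.2,
    mul_mem (hS.le p.1.2) (D_le hS p.2.2)⟩ : stabilizer G a)) ⟨?_, ?_⟩)).symm
  · rintro ⟨x, d⟩ ⟨x', d'⟩ h
    have h' : (x : G) * d = x' * d' := congrArg Subtype.val h
    have h1 : ((x : G)) • t • a = ((x' : G)) • t • a := by
      have := congrArg (fun g : G => g • t • a) h'
      simp only [mul_smul] at this
      rwa [((mem_D hS).mp d.2).2, ((mem_D hS).mp d'.2).2] at this
    have hx := Q_ta_inj hS x.2 x'.2 h1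
    exact Prod.ext (Subtype.ext hx) (Subtype.ext (mul_left_cancel (hx ▸ h')))
  · rintro ⟨g, hg⟩
    obtain ⟨x, hx, d, hd, rfl⟩ := exists_decomp hS (mem_stabilizer_iff.mp hg)
    exact ⟨(⟨x, hx⟩, ⟨d, hd⟩), rfl⟩

theorem card_group : Nat.card G = Nat.card Q * Nat.card (D a t) * (Nat.card Q + 1) := by
  haveI := pretransitive hS
  rw [← card_stab hS, ← card_points hS, ← MulAction.index_stabilizer_of_transitive G a,
    Subgroup.card_mul_index]

theorem exists_sylow_le : ∃ P : Sylow 2 G, (P : Subgroup G) ≤ Q := by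
  haveI := Fact.mk Nat.prime_two
  obtain ⟨P⟩ : Nonempty (Sylow 2 Q) := inferInstance
  have hm : ¬ 2 ∣ Nat.card (D a t) * (Nat.card Q + 1) := by
    rw [Nat.prime_two.dvd_mul, not_or]
    exact ⟨fun h => Nat.not_even_iff_odd.mpr hS.odd_card (even_iff_two_dvd.mpr h),
      fun h => Nat.not_even_iff_odd.mpr hS.even_card.add_one (even_iff_two_dvd.mpr h)⟩
  have hc : Nat.card ((P : Subgroup Q).map Q.subtype) = 2 ^ (Nat.card G).factorization 2 := by
    rw [Subgroup.card_map_of_injective Q.subtype_injective, Sylow.card_eq_multiplicity, card_group hS, mul_assoc,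
      Nat.factorization_mul Nat.card_pos.ne' (show Nat.card (D a t) * (Nat.card Q + 1) ≠ 0 from
        fun e => hm (e.symm ▸ dvd_zero 2)),
      Finsupp.coe_add, Pi.add_apply, Nat.factorization_eq_zero_of_not_dvd hm, add_zero]
  exact ⟨Sylow.ofCard _ hc, by rw [Sylow.coe_ofCard]; exact Subgroup.map_subtype_le _⟩

theorem D_mul_self {d : G} (hd : d ∈ D a t) (h : d * d = 1) : d = 1 := by
  have h1 : orderOf d ∣ 2 := orderOf_dvd_of_pow_eq_one (by rw [pow_two, h])
  have h2 : orderOf d ∣ Nat.card (D a t) := by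
    rw [← Subgroup.orderOf_mk d hd]; exact orderOf_dvd_natCard _
  have h3 : Nat.gcd 2 (Nat.card (D a t)) = 1 := Nat.coprime_two_left.mpr hS.odd_card
  have := Nat.dvd_gcd h1 h2
  rw [h3, Nat.dvd_one, orderOf_eq_one_iff] at this
  exact this

theorem invol_mem_Q {s : G} (hs : s • a = a) (hs2 : s * s = 1) : s ∈ Q := by
  obtain ⟨x, hx, d, hd, rfl⟩ := exists_decomp hS hs
  have hda := ((mem_D hS).mp hd).1
  have h1 : d * d = (d * x * d⁻¹)⁻¹ * x⁻¹ := by
    rw [show (d * x * d⁻¹)⁻¹ * x⁻¹ = d * (x⁻¹ * d⁻¹ * x⁻¹) by group,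
      show x⁻¹ * d⁻¹ * x⁻¹ = d by
        rw [eq_comm, ← mul_inv_eq_one]
        calc d * (x⁻¹ * d⁻¹ * x⁻¹)⁻¹ = d * x * (d * x) := by group
          _ = x⁻¹ * (x * d * (x * d)) * x := by group
          _ = 1 := by rw [hs2, mul_one, inv_mul_cancel]]
  have h2 : d * d = 1 := by
    refine eq_one_of_fix_ta hS ?_ (((mem_D hS).mp (mul_mem hd hd)).2)
    rw [h1]
    exact mul_mem (inv_mem (conj_Q hS hda hx)) (inv_mem hx)
  rw [D_mul_self hS hd h2, mul_one]
  exact hx

theorem exists_invol : ∃ s : G, s • a = a ∧ s ≠ 1 ∧ s * s = 1 := by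
  haveI := Fact.mk Nat.prime_two
  obtain ⟨x, hx⟩ := exists_prime_orderOf_dvd_card' (G := Q) 2 (even_iff_two_dvd.mp hS.even_card)
  obtain ⟨h1, h2⟩ := CfsgLib.Involutions.orderOf_eq_two_iff'.mp hx
  exact ⟨x, mem_Q_a hS x.2, fun e => h2 (Subtype.ext e), congrArg Subtype.val h1⟩

/-- An involution fixes at most one point. -/
theorem fix_unique {u : G} (hu : u ≠ 1) (hu2 : u * u = 1) {p q : Ω} (hp : u • p = p) (hq : u • q = q) :
    p = q := by
  by_contra hne
  obtain ⟨g, hg1, hg2⟩ := two_pt hS hne (ta_ne hS).symm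
  have hd : g * u * g⁻¹ ∈ D a t := by
    rw [mem_D hS, ← hg2, ← hg1]
    simp only [mul_smul, inv_smul_smul, hp, hq, and_self]
  have := D_mul_self hS hd (by rw [show g * u * g⁻¹ * (g * u * g⁻¹) = g * (u * u) * g⁻¹ by group, hu2, mul_one,
    mul_inv_cancel])
  exact hu (by rwa [mul_inv_eq_one, mul_eq_left] at this)

theorem exists_fix {u : G} (hu : u ≠ 1) (hu2 : u * u = 1) : ∃ c : Ω, u • c = c := by
  classical
  haveI := finite_points hS
  haveI : Fintype Ω := Fintype.ofFinite Ω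
  haveI := Fact.mk Nat.prime_two
  have hodd : ¬ 2 ∣ Fintype.card Ω := by
    rw [← Nat.card_eq_fintype_card, card_points hS]
    exact fun h => Nat.not_even_iff_odd.mpr hS.even_card.add_one (even_iff_two_dvd.mpr h)
  have hu' : Function.Involutive (fun x : Ω => u • x) := fun x => by simp only [smul_smul, hu2, one_smul]
  obtain ⟨c, hc⟩ := Equiv.Perm.exists_fixed_point_of_prime (p := 2) (n := 1) hodd (σ := hu'.toPerm)
    (Equiv.ext fun x => by
      simp only [pow_one, pow_two, Equiv.Perm.mul_apply, Equiv.Perm.one_apply]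
      exact hu' x)
  exact ⟨c, hc⟩

theorem not_fix_of_commute {s : G} (hs : s ≠ 1) (hs2 : s * s = 1) {c : Ω} (hsc : s • c = c) {z : G}
    (hz : s * z = z * s) : z • c = c := by
  refine fix_unique hS hs hs2 ?_ hsc
  rw [← mul_smul, hz, mul_smul, hsc]

theorem odd_mul {s u : G} (hs1 : s ≠ 1) (hs2 : s * s = 1) {c : Ω} (hsc : s • c = c) (hu1 : u ≠ 1)
    (hu2 : u * u = 1) (huc : u • c ≠ c) : Odd (orderOf (s * u)) := by
  rw [← Nat.not_even_iff_odd]
  intro heven
  obtain ⟨h1, h2⟩ := CfsgLib.Involutions.central_half hs2 hu2 heven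
  obtain ⟨hz2, hz1⟩ := CfsgLib.Involutions.orderOf_eq_two_iff'.mp
    (CfsgLib.Involutions.orderOf_half (x := s) (y := u) heven)
  have hzc := not_fix_of_commute hS hs1 hs2 hsc h1.eq.symm
  exact huc (not_fix_of_commute hS hz1 hz2 hzc h2.eq)

theorem exists_conj_of_ne {u v : G} (hu1 : u ≠ 1) (hu2 : u * u = 1) (hv1 : v ≠ 1) (hv2 : v * v = 1)
    {c : Ω} (huc : u • c = c) (hvc : v • c ≠ c) : ∃ g : G, g * u * g⁻¹ = v := by
  obtain ⟨d, -, hd⟩ := CfsgLib.Involutions.exists_conj_eq_of_odd hu2 hv2 (odd_mul hS hu1 hu2 huc hv1 hv2 hvc)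
  exact ⟨d, hd⟩

theorem invol_conj {u v : G} (hu1 : u ≠ 1) (hu2 : u * u = 1) (hv1 : v ≠ 1) (hv2 : v * v = 1) :
    ∃ g : G, g * u * g⁻¹ = v := by
  obtain ⟨c, hc⟩ := exists_fix hS hu1 hu2
  obtain ⟨c', hc'⟩ := exists_fix hS hv1 hv2
  by_cases h : v • c = c
  · haveI := pretransitive hS
    obtain ⟨s, hsa, hs1, hs2⟩ := exists_invol hS
    obtain ⟨d, hd⟩ : ∃ d : Ω, d ≠ c := by
      by_cases hca : c = a
      · exact ⟨t • a, fun e => ta_ne hS (e.trans hca)⟩
      · exact ⟨a, Ne.symm hca⟩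
    obtain ⟨g, hg⟩ := exists_smul_eq G a d
    set w := g * s * g⁻¹ with hw
    have hw1 : w ≠ 1 := fun e => hs1 (by rwa [hw, mul_inv_eq_one, mul_eq_left] at e)
    have hw2 : w * w = 1 := by
      rw [hw, show g * s * g⁻¹ * (g * s * g⁻¹) = g * (s * s) * g⁻¹ by group, hs2, mul_one, mul_inv_cancel]
    have hwd : w • d = d := by rw [hw, ← hg, mul_smul, mul_smul, inv_smul_smul, hsa]
    have hwc : w • c ≠ c := fun e => hd (fix_unique hS hw1 hw2 hwd e)
    obtain ⟨g1, h1⟩ := exists_conj_of_ne hS hu1 hu2 hw1 hw2 hc hwc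
    obtain ⟨g2, h2⟩ := exists_conj_of_ne hS hv1 hv2 hw1 hw2 h hwc
    exact ⟨g2⁻¹ * g1, by
      rw [show g2⁻¹ * g1 * u * (g2⁻¹ * g1)⁻¹ = g2⁻¹ * (g1 * u * g1⁻¹) * g2 by group, h1, ← h2]; group⟩
  · exact exists_conj_of_ne hS hu1 hu2 hv1 hv2 hc h

theorem normalizer_le {X : Set G} (hX : X ⊆ Q) (hne : ∃ x ∈ X, x ≠ 1) :
    Subgroup.normalizer X ≤ stabilizer G a := by
  intro g hg
  rw [mem_stabilizer_iff]
  by_contra hga
  obtain ⟨x, hx, hx1⟩ := hne
  have h1 : g * x * g⁻¹ ∈ X := (Subgroup.mem_set_normalizer_iff.mp hg x).mp hx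
  have h2 : (g * x * g⁻¹) • (g • a) = g • a := by
    rw [mul_smul, inv_smul_smul, mul_smul, mem_Q_a hS (hX hx)]
  exact hx1 (by
    have := eq_one_of_fix hS (hX h1) hga h2
    rwa [mul_inv_eq_one, mul_eq_left] at this)

theorem normalizer_Q : Subgroup.normalizer (Q : Set G) = stabilizer G a := by
  obtain ⟨s, hsa, hs1, hs2⟩ := exists_invol hS
  refine le_antisymm (normalizer_le hS subset_rfl ⟨s, invol_mem_Q hS hsa hs2, hs1⟩) fun g hg => ?_
  rw [Subgroup.mem_normalizer_iff]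
  intro y
  refine ⟨fun hy => conj_Q hS hg hy, fun hy => ?_⟩
  have := conj_Q' hS hg hy
  rwa [show g⁻¹ * (g * y * g⁻¹) * g = y by group] at this

theorem normalizer_stab : Subgroup.normalizer (stabilizer G a : Set G) = stabilizer G a := by
  obtain ⟨s, hsa, hs1, hs2⟩ := exists_invol hS
  refine le_antisymm (fun g hg => ?_) Subgroup.le_normalizer
  rw [mem_stabilizer_iff]
  by_contra hga
  have h1 : g⁻¹ * s * g ∈ stabilizer G a := (Subgroup.mem_normalizer_iff''.mp hg s).mp hsa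
  rw [mem_stabilizer_iff, mul_smul, mul_smul, inv_smul_eq_iff] at h1
  exact hs1 (eq_one_of_fix hS (invol_mem_Q hS hsa hs2) hga h1)

theorem t_conj_D {d : G} (hd : d ∈ D a t) : t * d * t ∈ D a t := by
  rw [mem_D hS] at hd ⊢
  simp only [mul_smul, smul_smul_t hS, hd.1, hd.2, and_self]

/-- Uniqueness of the form `g h t f`. -/
theorem ghf_unique {g h f g' h' f' : G} (hg : g ∈ Q) (hh : h ∈ D a t) (hf : f ∈ Q) (hg' : g' ∈ Q)
    (hh' : h' ∈ D a t) (hf' : f' ∈ Q) (e : g * h * t * f = g' * h' * t * f') : g = g' ∧ h = h' ∧ f = f' := by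
  have fa : ∀ {g h : G}, g ∈ Q → h ∈ D a t → (g * h) • a = a := fun hg hh => by
    rw [mul_smul, ((mem_D hS).mp hh).1, mem_Q_a hS hg]
  obtain ⟨e1, e2⟩ := form_unique hS (fa hg hh) (fa hg' hh') hf hf' e
  have h3 : g • t • a = g' • t • a := by
    have := congrArg (fun x : G => x • t • a) e1
    simp only [mul_smul] at this
    rwa [((mem_D hS).mp hh).2, ((mem_D hS).mp hh').2] at this
  have := Q_ta_inj hS hg hg' h3
  subst this
  exact ⟨rfl, mul_left_cancel e1, e2⟩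

end CfsgLib.RankOne
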