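/-
Subgroups of odd order normalised by an involution.
-/
import Cfsg.Prelude.Def_LieRecognition
import Mathlib.Algebra.Group.Subgroup.Pointwise
import Mathlib.GroupTheory.OrderOfElement

set_option autoImplicit false

namespace CfsgLib.RankOne.Inverted

open Cfsg
open scoped Pointwise

variable {M : Type*} [Group M] [Finite M] {t : M} {X : Subgroup M}

theorem eq_of_sq (hodd : Odd (Nat.card X)) {x y : M} (hx : x ∈ X) (hy : y ∈ X) (h : x * x = y * y) : x = y := by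
  have h' : (⟨x, hx⟩ : X) ^ 2 = (⟨y, hy⟩ : X) ^ 2 := Subtype.ext (by simpa [pow_two] using h)
  exact congrArg Subtype.val ((powCoprime (Nat.coprime_two_right.mpr hodd)).injective h')

theorem eq_one_of_sq (hodd : Odd (Nat.card X)) {x : M} (hx : x ∈ X) (h : x * x = 1) : x = 1 :=
  eq_of_sq hodd hx X.one_mem (by rw [h, one_mul])

theorem exists_sqrt (hodd : Odd (Nat.card X)) {y : M} (hy : y ∈ X) : ∃ x ∈ X, x * x = y := by
  obtain ⟨⟨x, hx⟩, h⟩ := (powCoprime (Nat.coprime_two_right.mpr hodd)).surjective ⟨y, hy⟩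
  exact ⟨x, hx, by simpa [pow_two] using congrArg Subtype.val h⟩

/-- A square root of an inverted element is inverted. -/
theorem exists_sqrt_inverted (hodd : Odd (Nat.card X)) (hnorm : ∀ x ∈ X, t * x * t⁻¹ ∈ X) {y : M}
    (hy : y ∈ invertedBy X t) : ∃ x ∈ invertedBy X t, x * x = y := by
  obtain ⟨x, hx, rfl⟩ := exists_sqrt hodd hy.1
  refine ⟨x, ⟨hx, eq_of_sq hodd (hnorm x hx) (X.inv_mem hx) ?_⟩, rfl⟩
  rw [show t * x * t⁻¹ * (t * x * t⁻¹) = t * (x * x) * t⁻¹ by group, hy.2, mul_inv_rev]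

theorem decomp (hodd : Odd (Nat.card X)) (hnorm : ∀ x ∈ X, t * x * t⁻¹ ∈ X) (ht : t * t = 1) {x : M}
    (hx : x ∈ X) :
    ∃! p : M × M, p.1 ∈ X ⊓ Subgroup.centralizer {t} ∧ p.2 ∈ invertedBy X t ∧ x = p.1 * p.2 := by
  have hti : t⁻¹ = t := inv_eq_of_mul_eq_one_right ht
  set y := (t * x * t⁻¹)⁻¹ * x with hy
  have hyX : y ∈ X := mul_mem (inv_mem (hnorm x hx)) hx
  have hyI : t * y * t⁻¹ = y⁻¹ := by
    rw [hy, hti]
    simp only [mul_inv_rev, inv_inv, hti]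
    calc t * (t * (x⁻¹ * t) * x) * t = (t * t) * x⁻¹ * t * x * t := by simp only [mul_assoc]
      _ = _ := by rw [ht, one_mul]; simp only [mul_assoc]
  obtain ⟨k, hk, hky⟩ := exists_sqrt_inverted hodd hnorm ⟨hyX, hyI⟩
  have hc : x * k⁻¹ ∈ X ⊓ Subgroup.centralizer {t} := by
    refine Subgroup.mem_inf.mpr ⟨mul_mem hx (inv_mem hk.1), ?_⟩
    rw [Subgroup.mem_centralizer_singleton_iff]
    have h1 : t * (x * k⁻¹) * t⁻¹ = x * k⁻¹ := by
      have e : t * x * t⁻¹ = x * y⁻¹ := by rw [hy]; group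
      rw [show t * (x * k⁻¹) * t⁻¹ = t * x * t⁻¹ * (t * k * t⁻¹)⁻¹ by group, hk.2, e, ← hky]
      group
    rw [mul_inv_eq_iff_eq_mul] at h1
    exact h1.symm
  refine ⟨(x * k⁻¹, k), ⟨hc, hk, by group⟩, ?_⟩
  rintro ⟨c, k'⟩ ⟨hc', hk', rfl⟩
  have hck : t * c = c * t := (Subgroup.mem_centralizer_singleton_iff.mp (Subgroup.mem_inf.mp hc').2).symm
  have hy' : y = k' * k' := by
    have h1 : t * (c * k') * t⁻¹ = c * k'⁻¹ := by
      calc t * (c * k') * t⁻¹ = t * c * t⁻¹ * (t * k' * t⁻¹) := by group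
        _ = _ := by rw [hk'.2, hck, mul_inv_cancel_right]
    rw [hy]
    show (t * (c * k') * t⁻¹)⁻¹ * (c * k') = k' * k'
    rw [h1]
    group
  have hkk : k' = k := eq_of_sq hodd hk'.1 hk.1 (by rw [← hy', hky])
  subst hkk
  exact Prod.ext (by simp) rfl

theorem card_eq (hodd : Odd (Nat.card X)) (hnorm : ∀ x ∈ X, t * x * t⁻¹ ∈ X) (ht : t * t = 1) :
    Nat.card X = Nat.card ↥(X ⊓ Subgroup.centralizer {t}) * Nat.card (invertedBy X t) := by
  rw [← Nat.card_prod]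
  refine (Nat.card_congr (Equiv.ofBijective (fun p : ↥(X ⊓ Subgroup.centralizer {t}) × (invertedBy X t) =>
    (⟨p.1.1 * p.2.1, mul_mem (Subgroup.mem_inf.mp p.1.2).1 p.2.2.1⟩ : X)) ⟨?_, ?_⟩)).symm
  · rintro ⟨⟨c, hc⟩, ⟨k, hk⟩⟩ ⟨⟨c', hc'⟩, ⟨k', hk'⟩⟩ e
    have e' : c * k = c' * k' := congrArg Subtype.val e
    obtain ⟨p, -, hp⟩ := decomp hodd hnorm ht (mul_mem (Subgroup.mem_inf.mp hc).1 hk.1)
    have h := (hp (c, k) ⟨hc, hk, rfl⟩).trans (hp (c', k') ⟨hc', hk', e'⟩).symm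
    simp only [Prod.mk.injEq] at h
    exact Prod.ext (Subtype.ext h.1) (Subtype.ext h.2)
  · rintro ⟨x, hx⟩
    obtain ⟨⟨c, k⟩, ⟨hc, hk, e⟩, -⟩ := decomp hodd hnorm ht hx
    exact ⟨(⟨c, hc⟩, ⟨k, hk⟩), Subtype.ext e.symm⟩

theorem closure_conj (hodd : Odd (Nat.card X)) (hnorm : ∀ x ∈ X, t * x * t⁻¹ ∈ X) (ht : t * t = 1) {x : M}
    (hx : x ∈ X) :
    MulAut.conj x • Subgroup.closure (invertedBy X t) = Subgroup.closure (invertedBy X t) := by
  have key : ∀ x ∈ X, MulAut.conj x • Subgroup.closure (invertedBy X t) ≤ Subgroup.closure (invertedBy X t) := by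
    intro x hx
    rw [Subgroup.smul_closure, Subgroup.closure_le]
    rintro _ ⟨k, hk, rfl⟩
    obtain ⟨⟨c, k'⟩, ⟨hc, hk', rfl⟩, -⟩ := decomp hodd hnorm ht hx
    obtain ⟨hcX, hcc⟩ := Subgroup.mem_inf.mp hc
    have hck : t * c = c * t := (Subgroup.mem_centralizer_singleton_iff.mp hcc).symm
    have hkey : ∀ z ∈ invertedBy X t, c * z * c⁻¹ ∈ invertedBy X t := by
      intro z hz
      refine ⟨mul_mem (mul_mem hcX hz.1) (inv_mem hcX), ?_⟩
      have e : t * c * t⁻¹ = c := by rw [hck, mul_inv_cancel_right]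
      calc t * (c * z * c⁻¹) * t⁻¹ = t * c * t⁻¹ * (t * z * t⁻¹) * (t * c * t⁻¹)⁻¹ := by group
        _ = _ := by rw [e, hz.2]; group
    show c * k' * k * (c * k')⁻¹ ∈ Subgroup.closure (invertedBy X t)
    rw [show c * k' * k * (c * k')⁻¹ = (c * k' * c⁻¹) * (c * k * c⁻¹) * (c * k' * c⁻¹)⁻¹ by group]
    exact mul_mem (mul_mem (Subgroup.subset_closure (hkey _ hk')) (Subgroup.subset_closure (hkey _ hk)))
      (inv_mem (Subgroup.subset_closure (hkey _ hk')))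
  refine le_antisymm (key x hx) ?_
  have h := key x⁻¹ (inv_mem hx)
  rw [map_inv] at h
  exact Subgroup.subset_pointwise_smul_iff.mpr h

end CfsgLib.RankOne.Inverted
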