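/-
The structure equation of a split rank one group and its consequences for the two-point stabiliser.
-/
import Cfsg.Agent.Lib.RankOne.Basic
import Cfsg.Agent.Lib.RankOne.Inverted

set_option autoImplicit false
set_option linter.unusedSectionVars false

namespace CfsgLib.RankOne

open MulAction Cfsg

variable {G Ω : Type*} [Group G] [Finite G] [MulAction G Ω] {a : Ω} {t : G} {Q : Subgroup G}
  (hS : IsRankOneSetup G Ω a t Q)

include hS

/-- The inverted elements of the two-point stabiliser. -/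
theorem D_norm : ∀ d ∈ D a t, t * d * t⁻¹ ∈ D a t := fun d hd => by
  rw [inv_t hS]; exact t_conj_D hS hd

theorem structure_eq : ∃! p : G × G, p.1 ∈ involutionsIn (stabilizer G a : Set G) ∧ p.2 ∈ Q ∧
    t * p.1 * t = p.2⁻¹ * t * p.2 := by
  obtain ⟨c0, hc0⟩ := exists_fix hS hS.ne_one hS.mul_self
  have hc0a : c0 ≠ a := fun e => ta_ne hS (e ▸ hc0)
  obtain ⟨r, hr, hrc⟩ := exists_Q_ta hS hc0a
  have ht := hS.mul_self
  refine ⟨(t * (r⁻¹ * t * r) * t, r), ⟨⟨?_, ?_, ?_⟩, hr, ?_⟩, ?_⟩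
  · show (t * (r⁻¹ * t * r) * t) • a = a
    simp only [mul_smul]
    rw [hrc, hc0, inv_smul_eq_iff.mpr hrc.symm, smul_smul_t hS]
  · intro e
    refine hS.ne_one ?_
    calc t = r * (t * (t * (r⁻¹ * t * r) * t) * t) * r⁻¹ := by
          simp [mul_assoc, ← mul_assoc t t, ht]
      _ = 1 := by
          rw [show t * (r⁻¹ * t * r) * t = 1 from e, mul_one, ht, mul_one, mul_inv_cancel]
  · simp [mul_assoc, ← mul_assoc t t, ht]
  · simp [mul_assoc, ← mul_assoc t t, ht]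
  · rintro ⟨s, r'⟩ ⟨⟨hsa, -, -⟩, hr', e⟩
    have h : (t * s * t) • t • a = t • a := by
      rw [mul_smul, mul_smul, smul_smul_t hS, show s • a = a from hsa]
    rw [show t * s * t = r'⁻¹ * t * r' from e, mul_smul, mul_smul, inv_smul_eq_iff] at h
    have hrr : r' = r := Q_ta_inj hS hr' hr ((fix_unique hS hS.ne_one hS.mul_self h hc0).trans hrc.symm)
    refine Prod.ext ?_ hrr
    show s = t * (r⁻¹ * t * r) * t
    rw [← hrr, ← show t * s * t = r'⁻¹ * t * r' from e]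
    simp [mul_assoc, ← mul_assoc t t, ht]

variable {s r : G} (hs : s ∈ involutionsIn (stabilizer G a : Set G)) (hr : r ∈ Q)
  (he : t * s * t = r⁻¹ * t * r)

include hs hr he

theorem cent_s_of_cent_t {d : G} (hd : d ∈ D a t) (hc : t * d = d * t) : s * d = d * s := by
  have hda := ((mem_D hS).mp hd).1
  have e1 : d * t * d⁻¹ = t := by rw [← hc, mul_inv_cancel_right]
  obtain ⟨p, -, hp⟩ := structure_eq hS
  have h1 := hp (s, r) ⟨hs, hr, he⟩
  have h2 := hp (d * s * d⁻¹, d * r * d⁻¹) ⟨⟨?_, ?_, ?_⟩, conj_Q hS hda hr, ?_⟩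
  · have e : d * s * d⁻¹ = s := congrArg Prod.fst (h2.trans h1.symm)
    rw [mul_inv_eq_iff_eq_mul] at e
    exact e.symm
  · show (d * s * d⁻¹) • a = a
    rw [mul_smul, mul_smul, inv_smul_eq_iff.mpr hda.symm, show s • a = a from hs.1, hda]
  · exact fun e => hs.2.1 (by rwa [mul_inv_eq_one, mul_eq_left] at e)
  · rw [show d * s * d⁻¹ * (d * s * d⁻¹) = d * (s * s) * d⁻¹ by group, hs.2.2, mul_one, mul_inv_cancel]
  · show t * (d * s * d⁻¹) * t = (d * r * d⁻¹)⁻¹ * t * (d * r * d⁻¹)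
    calc t * (d * s * d⁻¹) * t = d * t * d⁻¹ * (d * s * d⁻¹) * (d * t * d⁻¹) := by rw [e1]
      _ = d * (t * s * t) * d⁻¹ := by group
      _ = (d * r * d⁻¹)⁻¹ * (d * t * d⁻¹) * (d * r * d⁻¹) := by rw [he]; group
      _ = _ := by rw [e1]

theorem inverted_cent_s {l : G} (hl : l ∈ invertedBy (D a t) t) (hc : s * l = l * s) : l = 1 := by
  have ht := hS.mul_self
  obtain ⟨hla, hlb⟩ := (mem_D hS).mp hl.1
  have hli : t * l * t = l⁻¹ := by rw [← hl.2, inv_t hS]
  set u := t * s * t with hu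
  have hcu : u * l = l * u := by
    have h1 : s * l⁻¹ = l⁻¹ * s := by
      calc s * l⁻¹ = l⁻¹ * (l * s) * l⁻¹ := by group
        _ = l⁻¹ * s := by rw [← hc]; group
    calc u * l = t * s * (t * l * t) * t := by rw [hu]; simp [mul_assoc, ht]
      _ = t * (s * l⁻¹) * t := by rw [hli]; group
      _ = t * l⁻¹ * s * t := by rw [h1]; group
      _ = t * (t * l * t) * s * t := by rw [hli]
      _ = l * u := by rw [hu]; simp [mul_assoc, ← mul_assoc t t, ht]
  have hua : u • a = r⁻¹ • t • a := by rw [he, mul_smul, mul_smul, mem_Q_a hS hr]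
  have h2 : (l * r⁻¹ * l⁻¹) • t • a = r⁻¹ • t • a := by
    rw [mul_smul, mul_smul, inv_smul_eq_iff.mpr hlb.symm, ← hua, ← mul_smul, ← hcu, mul_smul, hla]
  have h3 := Q_ta_inj hS (conj_Q hS hla (inv_mem hr)) (inv_mem hr) h2
  have h4 : r * l = l * r := by
    calc r * l = r * (l * r⁻¹ * l⁻¹) * (l * r) := by group
      _ = l * r := by rw [h3]; group
  have h5 : t * l = l * t := by
    calc t * l = r * (r⁻¹ * t * r) * (r⁻¹ * l * r) * r⁻¹ := by group
      _ = r * (u * l) * r⁻¹ := by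
          rw [← he, show r⁻¹ * l * r = l by rw [mul_assoc, ← h4, inv_mul_cancel_left]]; group
      _ = r * l * (r⁻¹ * t * r) * r⁻¹ := by rw [hcu, he]; group
      _ = l * t := by rw [h4]; group
  refine Inverted.eq_one_of_sq hS.odd_card hl.1 ?_
  have : l⁻¹ = l := by rw [← hli, h5, mul_assoc, ht, mul_one]
  calc l * l = l⁻¹ * l := by rw [this]
    _ = 1 := inv_mul_cancel l

theorem cent_t_of_cent_s {d : G} (hd : d ∈ D a t) (hc : s * d = d * s) : t * d = d * t := by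
  obtain ⟨⟨v, l⟩, ⟨hv, hl, rfl⟩, -⟩ := Inverted.decomp hS.odd_card (D_norm hS) hS.mul_self hd
  obtain ⟨hvD, hvt⟩ := Subgroup.mem_inf.mp hv
  have hvt' := (Subgroup.mem_centralizer_singleton_iff.mp hvt).symm
  have hvs := cent_s_of_cent_t hS hs hr he hvD hvt'
  have hls : s * l = l * s := by
    calc s * l = v⁻¹ * (v * s) * l := by group
      _ = v⁻¹ * (s * (v * l)) := by rw [← hvs]; group
      _ = l * s := by rw [show s * (v * l) = v * l * s from hc]; group
  rw [show l = 1 from inverted_cent_s hS hs hr he hl hls, mul_one]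
  exact hvt'

theorem inverted_inj {k1 k k' : G} (hk1 : k1 ∈ invertedBy (D a t) t) (hk : k ∈ invertedBy (D a t) t)
    (hk' : k' ∈ invertedBy (D a t) t) (h : (k1 * k)⁻¹ * s * (k1 * k) = (k1 * k')⁻¹ * s * (k1 * k')) :
    k = k' := by
  have hinv : ∀ {z}, z ∈ invertedBy (D a t) t → t * z * t⁻¹ = z⁻¹ := fun hz => hz.2
  set w := (k1 * k) * (k1 * k')⁻¹ with hw
  have hwD : w ∈ D a t := mul_mem (mul_mem hk1.1 hk.1) (inv_mem (mul_mem hk1.1 hk'.1))
  have hsw : s * w = w * s := by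
    calc s * w = (k1 * k) * ((k1 * k)⁻¹ * s * (k1 * k)) * (k1 * k')⁻¹ := by rw [hw]; group
      _ = w * s := by rw [h, hw]; group
  have htw := cent_t_of_cent_s hS hs hr he hwD hsw
  have e1 : (k1 * k) = w * (k1 * k') := by rw [hw]; group
  have e2 : k1⁻¹ * k⁻¹ = w * (k1⁻¹ * k'⁻¹) := by
    have h1 : t * (k1 * k) * t⁻¹ = k1⁻¹ * k⁻¹ := by
      calc t * (k1 * k) * t⁻¹ = t * k1 * t⁻¹ * (t * k * t⁻¹) := by group
        _ = _ := by rw [hinv hk1, hinv hk]
    rw [← h1, e1]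
    calc t * (w * (k1 * k')) * t⁻¹ = t * w * t⁻¹ * (t * k1 * t⁻¹ * (t * k' * t⁻¹)) := by group
      _ = _ := by rw [hinv hk1, hinv hk', htw, mul_inv_cancel_right]
  have h3 : k * k1 * (k1 * k) = k' * k1 * (k1 * k') := by
    calc k * k1 * (k1 * k) = (k1⁻¹ * k⁻¹)⁻¹ * (k1 * k) := by group
      _ = (w * (k1⁻¹ * k'⁻¹))⁻¹ * (w * (k1 * k')) := by rw [e2, ← e1]
      _ = _ := by group
  have h4 : k1 * k * k1 = k1 * k' * k1 := by
    refine Inverted.eq_of_sq hS.odd_card (mul_mem (mul_mem hk1.1 hk.1) hk1.1)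
      (mul_mem (mul_mem hk1.1 hk'.1) hk1.1) ?_
    calc k1 * k * k1 * (k1 * k * k1) = k1 * (k * k1 * (k1 * k)) * k1 := by group
      _ = _ := by rw [h3]; group
  exact mul_left_cancel (mul_right_cancel h4)

theorem conj_mem_invol {k : G} (hk : k ∈ D a t) : k⁻¹ * s * k ∈ involutionsIn (stabilizer G a : Set G) := by
  refine ⟨mul_mem (mul_mem (inv_mem (D_le hS hk)) hs.1) (D_le hS hk), fun e => hs.2.1 ?_, ?_⟩
  · calc s = k * (k⁻¹ * s * k) * k⁻¹ := by group
      _ = 1 := by rw [e, mul_one, mul_inv_cancel]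
  · rw [show k⁻¹ * s * k * (k⁻¹ * s * k) = k⁻¹ * (s * s) * k by group, hs.2.2, mul_one, inv_mul_cancel]

omit hs hr he

theorem exists_swap_pair {p q : Ω} (hpq : p ≠ q) :
    ∃ g : G, g • a = p ∧ g • t • a = q := two_pt hS (ta_ne hS).symm hpq

theorem card_inverted :
    Nat.card (invertedBy (D a t) t) = Nat.card (involutionsIn (stabilizer G a : Set G)) := by
  classical
  haveI := finite_points hS
  haveI : Fintype Ω := Fintype.ofFinite Ω
  haveI : Fintype G := Fintype.ofFinite G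
  set I := {u : G // u ≠ 1 ∧ u * u = 1}
  set i := Nat.card (involutionsIn (stabilizer G a : Set G))
  set kk := Nat.card (invertedBy (D a t) t)
  have hswap : ∀ {u : G}, u * u = 1 → ∀ {p q : Ω}, u • p = q → u • q = p := fun hu p q h => by
    rw [← h, smul_smul, hu, one_smul]
  have hpair : ∀ p q : Ω, p ≠ q → Nat.card {u : I // u.1 • p = q} = kk := by
    intro p q hpq
    obtain ⟨g, hg1, hg2⟩ := exists_swap_pair hS hpq
    refine Nat.card_congr
      { toFun := fun u => ⟨t * (g⁻¹ * u.1.1 * g), ?_, ?_⟩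
        invFun := fun k => ⟨⟨g * (t * k.1) * g⁻¹, ?_, ?_⟩, ?_⟩
        left_inv := fun u => Subtype.ext (Subtype.ext (by
          show g * (t * (t * (g⁻¹ * u.1.1 * g))) * g⁻¹ = u.1.1
          rw [← mul_assoc t t, hS.mul_self]; group))
        right_inv := fun k => Subtype.ext (by
          show t * (g⁻¹ * (g * (t * k.1) * g⁻¹) * g) = k.1
          rw [show g⁻¹ * (g * (t * k.1) * g⁻¹) * g = t * k.1 by group, ← mul_assoc t t, hS.mul_self, one_mul]) }
    · rw [mem_D hS]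
      simp only [mul_smul]
      rw [hg1, u.2, inv_smul_eq_iff.mpr hg2.symm, smul_smul_t hS, hg2, hswap u.1.2.2 u.2,
        inv_smul_eq_iff.mpr hg1.symm]
      exact ⟨rfl, rfl⟩
    · have hu := u.1.2.2
      rw [inv_t hS, ← mul_assoc t t, hS.mul_self, one_mul, eq_inv_iff_mul_eq_one]
      calc g⁻¹ * u.1.1 * g * t * (t * (g⁻¹ * u.1.1 * g)) = g⁻¹ * u.1.1 * g * (t * t) * (g⁻¹ * u.1.1 * g) := by
            group
        _ = g⁻¹ * (u.1.1 * u.1.1) * g := by rw [hS.mul_self]; group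
        _ = 1 := by rw [hu, mul_one, inv_mul_cancel]
    · intro e
      rw [mul_inv_eq_one, mul_eq_left] at e
      refine hS.not_mem ?_
      rw [eq_inv_of_mul_eq_one_left e]
      exact inv_mem (D_le hS k.2.1)
    · have hk := k.2.2
      rw [inv_t hS] at hk
      rw [show g * (t * k.1) * g⁻¹ * (g * (t * k.1) * g⁻¹) = g * (t * k.1 * t * k.1) * g⁻¹ by group, hk,
        inv_mul_cancel, mul_one, mul_inv_cancel]
    · show (g * (t * k.1) * g⁻¹) • p = q
      simp only [mul_smul, inv_smul_eq_iff.mpr hg1.symm, ((mem_D hS).mp k.2.1).1, hg2]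
  have hfix : ∀ p : Ω, Nat.card {u : I // u.1 • p = p} = i := by
    intro p
    haveI := pretransitive hS
    obtain ⟨g, rfl⟩ := exists_smul_eq G a p
    refine Nat.card_congr
      { toFun := fun u => ⟨g⁻¹ * u.1.1 * g, ?_, ?_, ?_⟩
        invFun := fun s => ⟨⟨g * s.1 * g⁻¹, ?_, ?_⟩, ?_⟩
        left_inv := fun u => Subtype.ext (Subtype.ext (by
          show g * (g⁻¹ * u.1.1 * g) * g⁻¹ = u.1.1
          group))
        right_inv := fun s => Subtype.ext (by
          show g⁻¹ * (g * s.1 * g⁻¹) * g = s.1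
          group) }
    · show (g⁻¹ * u.1.1 * g) • a = a
      rw [mul_smul, mul_smul, u.2, inv_smul_smul]
    · intro e
      refine u.1.2.1 ?_
      calc u.1.1 = g * (g⁻¹ * u.1.1 * g) * g⁻¹ := by group
        _ = 1 := by rw [e, mul_one, mul_inv_cancel]
    · rw [show g⁻¹ * u.1.1 * g * (g⁻¹ * u.1.1 * g) = g⁻¹ * (u.1.1 * u.1.1) * g by group, u.1.2.2, mul_one,
        inv_mul_cancel]
    · intro e
      rw [mul_inv_eq_one, mul_eq_left] at e
      exact s.2.2.1 e
    · rw [show g * s.1 * g⁻¹ * (g * s.1 * g⁻¹) = g * (s.1 * s.1) * g⁻¹ by group, s.2.2.2, mul_one, mul_inv_cancel]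
    · show (g * s.1 * g⁻¹) • g • a = g • a
      simp only [mul_smul, inv_smul_smul, show s.1 • a = a from s.2.1]
  set n := Fintype.card Ω
  have hI : Fintype.card I = n * i := by
    have e : (Σ p : Ω, {u : I // u.1 • p = p}) ≃ I :=
      { toFun := fun x => x.2.1
        invFun := fun u => ⟨(exists_fix hS u.2.1 u.2.2).choose, u, (exists_fix hS u.2.1 u.2.2).choose_spec⟩
        left_inv := fun ⟨p, u, hu⟩ => by
          have h := fix_unique hS u.2.1 u.2.2 (exists_fix hS u.2.1 u.2.2).choose_spec hu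
          subst h
          rfl
        right_inv := fun u => rfl }
    rw [← Fintype.card_congr e, Fintype.card_sigma]
    simp only [← Nat.card_eq_fintype_card, hfix, Finset.sum_const, Finset.card_univ, smul_eq_mul]
    rw [Nat.card_eq_fintype_card]
  have hne : ∀ u : I, Fintype.card {p : Ω // u.1 • p ≠ p} = n - 1 := by
    intro u
    obtain ⟨c, hc⟩ := exists_fix hS u.2.1 u.2.2
    have e : {p : Ω // u.1 • p ≠ p} ≃ {p : Ω // p ≠ c} :=
      Equiv.subtypeEquivRight fun p => ⟨fun h e => h (e ▸ hc), fun h e => h (fix_unique hS u.2.1 u.2.2 e hc)⟩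
    rw [Fintype.card_congr e, Fintype.card_subtype_compl, Fintype.card_subtype_eq]
  have hcount : Fintype.card I * (n - 1) = n * ((n - 1) * kk) := by
    have e : (Σ u : I, {p : Ω // u.1 • p ≠ p}) ≃
        (Σ pq : {pq : Ω × Ω // pq.1 ≠ pq.2}, {u : I // u.1 • pq.1.1 = pq.1.2}) :=
      { toFun := fun x => ⟨⟨(x.2.1, x.1.1 • x.2.1), fun e => x.2.2 e.symm⟩, x.1, rfl⟩
        invFun := fun y => ⟨y.2.1, y.1.1.1, fun e => y.1.2 (e.symm.trans y.2.2)⟩
        left_inv := fun x => rfl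
        right_inv := fun ⟨⟨⟨p, q⟩, hpq⟩, u, hu⟩ =>
          Sigma.subtype_ext (Subtype.ext (Prod.ext rfl hu)) rfl }
    have hpairs : Fintype.card {pq : Ω × Ω // pq.1 ≠ pq.2} = n * (n - 1) := by
      have e' : {pq : Ω × Ω // pq.1 ≠ pq.2} ≃ (Σ p : Ω, {q : Ω // q ≠ p}) :=
        { toFun := fun x => ⟨x.1.1, x.1.2, fun e => x.2 e.symm⟩
          invFun := fun y => ⟨(y.1, y.2.1), fun e => y.2.2 e.symm⟩
          left_inv := fun x => rfl
          right_inv := fun y => rfl }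
      rw [Fintype.card_congr e', Fintype.card_sigma]
      simp only [Fintype.card_subtype_compl, Fintype.card_subtype_eq, Finset.sum_const, Finset.card_univ, smul_eq_mul]
      rfl
    have h := Fintype.card_congr e
    rw [Fintype.card_sigma, Fintype.card_sigma] at h
    simp only [hne, Finset.sum_const, Finset.card_univ, smul_eq_mul] at h
    rw [h, Finset.sum_congr rfl fun pq _ => show Fintype.card {u : I // u.1 • pq.1.1 = pq.1.2} = kk by
      rw [← Nat.card_eq_fintype_card]; exact hpair _ _ pq.2]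
    simp only [Finset.sum_const, Finset.card_univ, smul_eq_mul, hpairs]
    ring
  have hn2 : 2 ≤ n := Fintype.one_lt_card_iff.mpr ⟨t • a, a, ta_ne hS⟩
  rw [hI, mul_assoc] at hcount
  have h2 := Nat.eq_of_mul_eq_mul_left (by omega : 0 < n) hcount
  rw [mul_comm i] at h2
  exact (Nat.eq_of_mul_eq_mul_left (by omega : 0 < n - 1) h2).symm

theorem exists_conj_inverted {s1 s2 : G} (h1 : s1 ∈ involutionsIn (stabilizer G a : Set G))
    (h2 : s2 ∈ involutionsIn (stabilizer G a : Set G)) :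
    ∃ k ∈ invertedBy (D a t) t, k⁻¹ * s1 * k = s2 := by
  obtain ⟨⟨s, r⟩, ⟨hs, hr, he⟩, -⟩ := structure_eq hS
  have key : ∀ k1 : G, ∀ hk1 : k1 ∈ invertedBy (D a t) t, Function.Bijective (fun k : invertedBy (D a t) t =>
      (⟨(k1 * k.1)⁻¹ * s * (k1 * k.1), conj_mem_invol hS hs hr he (mul_mem hk1.1 k.2.1)⟩ :
        involutionsIn (stabilizer G a : Set G))) := by
    intro k1 hk1
    exact Function.Injective.bijective_of_nat_card_le
      (fun k k' e => Subtype.ext (inverted_inj hS hs hr he hk1 k.2 k'.2 (congrArg Subtype.val e)))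
      (card_inverted hS).ge
  have hone : (1 : G) ∈ invertedBy (D a t) t := ⟨one_mem _, by simp⟩
  obtain ⟨k1, e1⟩ := (key 1 hone).2 ⟨s1, h1⟩
  obtain ⟨k, e2⟩ := (key k1.1 k1.2).2 ⟨s2, h2⟩
  have e1' : k1.1⁻¹ * s * k1.1 = s1 := by
    have h : (1 * k1.1)⁻¹ * s * (1 * k1.1) = s1 := congrArg Subtype.val e1
    rwa [one_mul] at h
  refine ⟨k.1, k.2, ?_⟩
  have h : (k1.1 * k.1)⁻¹ * s * (k1.1 * k.1) = s2 := congrArg Subtype.val e2
  rw [← e1', ← h]
  group

theorem cent_inverted :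
    D a t ⊓ Subgroup.centralizer {t} ⊓ Subgroup.centralizer (invertedBy (D a t) t) =
      D a t ⊓ Subgroup.centralizer (involutionsIn (stabilizer G a : Set G)) := by
  obtain ⟨⟨s, r⟩, ⟨hs, hr, he⟩, -⟩ := structure_eq hS
  ext d
  simp only [Subgroup.mem_inf, Subgroup.mem_centralizer_singleton_iff]
  constructor
  · rintro ⟨⟨hd, hdt⟩, hdK⟩
    refine ⟨⟨hd.1, hd.2⟩, ?_⟩
    rw [Subgroup.mem_centralizer_iff]
    intro s' hs'
    obtain ⟨k, hk, rfl⟩ := exists_conj_inverted hS hs hs'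
    have hks : s * d = d * s := cent_s_of_cent_t hS hs hr he (Subgroup.mem_inf.mpr hd) hdt.symm
    have hkd : k * d = d * k := Subgroup.mem_centralizer_iff.mp hdK k hk
    calc k⁻¹ * s * k * d = k⁻¹ * s * (d * k) := by rw [mul_assoc (k⁻¹ * s), hkd]
      _ = k⁻¹ * (s * d) * k := by group
      _ = (k⁻¹ * d) * s * k := by rw [hks]; group
      _ = d * (k⁻¹ * s * k) := by
          rw [show k⁻¹ * d = d * k⁻¹ by rw [inv_mul_eq_iff_eq_mul, ← mul_assoc, hkd, mul_inv_cancel_right]]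
          group
  · rintro ⟨hd, hdI⟩
    have hdD : d ∈ D a t := Subgroup.mem_inf.mpr hd
    have hall := Subgroup.mem_centralizer_iff.mp hdI
    have hdt := cent_t_of_cent_s hS hs hr he hdD (hall s hs)
    refine ⟨⟨hd, hdt.symm⟩, ?_⟩
    rw [Subgroup.mem_centralizer_iff]
    intro k hk
    have hw : s * (k * d * k⁻¹) = k * d * k⁻¹ * s := by
      have := hall _ (conj_mem_invol hS hs hr he hk.1)
      calc s * (k * d * k⁻¹) = k * (k⁻¹ * s * k * d) * k⁻¹ := by group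
        _ = _ := by rw [this]; group
    have htw := cent_t_of_cent_s hS hs hr he (mul_mem (mul_mem hk.1 hdD) (inv_mem hk.1)) hw
    have e1 : k⁻¹ * d * k = k * d * k⁻¹ := by
      calc k⁻¹ * d * k = t * k * t⁻¹ * d * (t * k * t⁻¹)⁻¹ := by rw [hk.2, inv_inv]
        _ = t * k * (t⁻¹ * (d * t)) * k⁻¹ * t⁻¹ := by group
        _ = t * (k * d * k⁻¹) * t⁻¹ := by rw [← hdt]; group
        _ = _ := by rw [htw, mul_inv_cancel_right]
    have h2 : d * k * d⁻¹ * (d * k * d⁻¹) = k * k := by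
      calc d * k * d⁻¹ * (d * k * d⁻¹) = k * (k⁻¹ * d * k) * k * d⁻¹ := by group
        _ = k * k := by rw [e1]; group
    have h3 := Inverted.eq_of_sq hS.odd_card (mul_mem (mul_mem hdD hk.1) (inv_mem hdD)) hk.1 h2
    rw [mul_inv_eq_iff_eq_mul] at h3
    exact h3.symm

variable {X : Set G} (hX : X ⊆ (D a t : Set G))
  (h3 : ∃ b c d : Ω, b ≠ c ∧ b ≠ d ∧ c ≠ d ∧ ∀ x ∈ X, x • b = b ∧ x • c = c ∧ x • d = d)

include hX

theorem fix_a {x : G} (hx : x ∈ X) : x • a = a ∧ x • t • a = t • a := (mem_D hS).mp (hX hx)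

theorem cent_Q_mem {y : G} (hy : y ∈ Q) (hc : ∀ x ∈ X, x • y • t • a = y • t • a) :
    y ∈ Subgroup.centralizer X := by
  rw [Subgroup.mem_centralizer_iff]
  intro x hx
  obtain ⟨hxa, hxb⟩ := fix_a hS hX hx
  have h : (x * y * x⁻¹) • t • a = y • t • a := by
    rw [mul_smul, inv_smul_eq_iff.mpr hxb.symm, mul_smul, hc x hx]
  have := Q_ta_inj hS (conj_Q hS hxa hy) hy h
  rwa [mul_inv_eq_iff_eq_mul] at this

theorem cent_smul {g : G} (hg : g ∈ Subgroup.centralizer X) {c : Ω} (hc : ∀ x ∈ X, x • c = c) :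
    ∀ x ∈ X, x • g • c = g • c := fun x hx => by
  rw [← mul_smul, Subgroup.mem_centralizer_iff.mp hg x hx, mul_smul, hc x hx]

theorem cent_trans_others {b c : Ω} (hb : b ≠ a) (hc : c ≠ a) (hbf : ∀ x ∈ X, x • b = b)
    (hcf : ∀ x ∈ X, x • c = c) : ∃ g ∈ Subgroup.centralizer X, g • a = a ∧ g • b = c := by
  obtain ⟨y, hy, rfl⟩ := exists_Q_ta hS hb
  obtain ⟨z, hz, rfl⟩ := exists_Q_ta hS hc
  refine ⟨z * y⁻¹, mul_mem (cent_Q_mem hS hX hz hcf) (inv_mem (cent_Q_mem hS hX hy hbf)), ?_, ?_⟩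
  · rw [mul_smul, mem_Q_a hS (inv_mem hy), mem_Q_a hS hz]
  · rw [mul_smul, inv_smul_smul]

include h3

theorem exists_third : ∃ c, c ≠ a ∧ c ≠ t • a ∧ ∀ x ∈ X, x • c = c := by
  obtain ⟨b, c, d, hbc, hbd, hcd, hf⟩ := h3
  by_contra h
  simp only [not_exists, not_and] at h
  have key : ∀ p, (∀ x ∈ X, x • p = p) → p = a ∨ p = t • a := fun p hp => by
    by_cases h1 : p = a
    · exact Or.inl h1
    · by_cases h2 : p = t • a
      · exact Or.inr h2
      · exact absurd hp (h p h1 h2)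
  rcases key b fun x hx => (hf x hx).1 with rfl | rfl <;>
    rcases key c fun x hx => (hf x hx).2.1 with rfl | rfl <;>
      rcases key d fun x hx => (hf x hx).2.2 with rfl | rfl <;>
        first | exact hbc rfl | exact hbd rfl | exact hcd rfl

theorem exists_conj_t : ∃ y ∈ Q, ∀ x ∈ X, x * (y * t) = y * t * (t * x * t) := by
  obtain ⟨c, hca, -, hcf⟩ := exists_third hS hX h3
  obtain ⟨y, hy, rfl⟩ := exists_Q_ta hS hca
  refine ⟨y, hy, fun x hx => ?_⟩
  have := Subgroup.mem_centralizer_iff.mp (cent_Q_mem hS hX hy hcf) x hx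
  calc x * (y * t) = y * x * t := by rw [← mul_assoc, this]
    _ = y * (t * t) * x * t := by rw [hS.mul_self, mul_one]
    _ = _ := by group

/-- The centraliser is transitive on the fixed points. -/
theorem cent_to_a {b : Ω} (hbf : ∀ x ∈ X, x • b = b) : ∃ g ∈ Subgroup.centralizer X, g • b = a := by
  by_cases hba : b = a
  · exact ⟨1, one_mem _, by rw [one_smul, hba]⟩
  -- the conjugate set `t X t` lies in the two-point stabiliser
  have hX' : (fun x => t * x * t) '' X ⊆ (D a t : Set G) := by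
    rintro _ ⟨x, hx, rfl⟩
    exact t_conj_D hS (hX hx)
  have hfix' : ∀ {p : Ω}, (∀ x ∈ X, x • p = p) → ∀ x ∈ (fun x => t * x * t) '' X, x • t • p = t • p := by
    rintro p hp _ ⟨x, hx, rfl⟩
    show (t * x * t) • t • p = t • p
    rw [mul_smul, mul_smul, smul_smul_t hS, hp x hx]
  have hcent : ∀ g ∈ Subgroup.centralizer ((fun x => t * x * t) '' X),
      t * g * t ∈ Subgroup.centralizer X := by
    intro g hg
    rw [Subgroup.mem_centralizer_iff]
    intro x hx
    have h := Subgroup.mem_centralizer_iff.mp hg _ ⟨x, hx, rfl⟩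
    calc x * (t * g * t) = t * (t * x * t * g) * t := by simp [mul_assoc, ← mul_assoc t t, hS.mul_self]
      _ = t * (g * (t * x * t)) * t := by rw [show t * x * t * g = g * (t * x * t) from h]
      _ = _ := by simp [mul_assoc, hS.mul_self]
  obtain ⟨c, hca, hcb, hcf⟩ := exists_third hS hX h3
  have hne : ∀ {p : Ω}, p ≠ t • a → t • p ≠ a := fun hp e => hp (by rw [← e, smul_smul_t hS])
  obtain ⟨g1, hg1, hg1a, hg1b⟩ : ∃ g ∈ Subgroup.centralizer X, g • a = a ∧ g • b = c :=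
    cent_trans_others hS hX hba hca hbf hcf
  obtain ⟨g, hg, -, hgb⟩ := cent_trans_others hS (X := (fun x => t * x * t) '' X) hX'
    (b := t • c) (c := t • a) (hne hcb) (ta_ne hS) (hfix' hcf) (hfix' fun x hx => (fix_a hS hX hx).1)
  refine ⟨t * g * t * g1, mul_mem (hcent g hg) hg1, ?_⟩
  rw [mul_smul, hg1b, mul_smul, mul_smul, hgb, smul_smul_t hS]

theorem cent_two_trans {b₁ b₂ c₁ c₂ : Ω}
    (hf : ∀ x ∈ X, x • b₁ = b₁ ∧ x • b₂ = b₂ ∧ x • c₁ = c₁ ∧ x • c₂ = c₂) (hb : b₁ ≠ b₂) (hc : c₁ ≠ c₂) :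
    ∃ g ∈ Subgroup.centralizer X, g • b₁ = c₁ ∧ g • b₂ = c₂ := by
  obtain ⟨g1, hg1, e1⟩ := cent_to_a hS hX h3 fun x hx => (hf x hx).1
  obtain ⟨g2, hg2, e2⟩ := cent_to_a hS hX h3 fun x hx => (hf x hx).2.2.1
  have hb2 : g1 • b₂ ≠ a := fun e => hb (smul_left_cancel g1 (e1.trans e.symm))
  have hc2 : g2 • c₂ ≠ a := fun e => hc (smul_left_cancel g2 (e2.trans e.symm))
  obtain ⟨g, hg, ga, gb⟩ := cent_trans_others hS hX hb2 hc2
    (cent_smul hS hX hg1 fun x hx => (hf x hx).2.1) (cent_smul hS hX hg2 fun x hx => (hf x hx).2.2.2)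
  refine ⟨g2⁻¹ * g * g1, mul_mem (mul_mem (inv_mem hg2) hg) hg1, ?_, ?_⟩
  · rw [mul_smul, mul_smul, e1, ga, inv_smul_eq_iff, e2]
  · rw [mul_smul, mul_smul, gb, inv_smul_smul]

theorem exists_cent_swap : ∃ w ∈ Subgroup.centralizer X, w * w = 1 ∧ w • a = t • a ∧ w • t • a = a := by
  have hf : ∀ x ∈ X, x • a = a ∧ x • t • a = t • a ∧ x • t • a = t • a ∧ x • a = a := fun x hx =>
    ⟨(fix_a hS hX hx).1, (fix_a hS hX hx).2, (fix_a hS hX hx).2, (fix_a hS hX hx).1⟩
  obtain ⟨g, hg, g1, g2⟩ := cent_two_trans hS hX h3 hf (ta_ne hS).symm (ta_ne hS)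
  set n := Nat.card (D a t)
  obtain ⟨k, hk⟩ := hS.odd_card
  have hgg : g * g ∈ D a t := by
    rw [mem_D hS, mul_smul, g1, g2, mul_smul, g2, g1]
    exact ⟨rfl, rfl⟩
  have hpow : (g * g) ^ n = 1 := by
    have h := pow_card_eq_one' (G := D a t) (x := ⟨g * g, hgg⟩)
    exact congrArg Subtype.val h
  have hgk : (g * g) ^ k ∈ D a t := pow_mem hgg k
  obtain ⟨hka, hkb⟩ := (mem_D hS).mp hgk
  have hn : g ^ n = (g * g) ^ k * g := by rw [show n = 2 * k + 1 from hk, pow_succ, pow_mul, pow_two]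
  refine ⟨g ^ n, pow_mem hg n, ?_, ?_, ?_⟩
  · rw [← pow_add, ← two_mul, pow_mul, pow_two, hpow]
  · rw [hn, mul_smul, g1, hkb]
  · rw [hn, mul_smul, g2, hka]

theorem cent_even : Even (Nat.card ↥(Subgroup.centralizer X ⊓ Q)) := by
  obtain ⟨w, hw, hw2, hwa, -⟩ := exists_cent_swap hS hX h3
  have hw1 : w ≠ 1 := fun e => ta_ne hS (by rw [← hwa, e, one_smul])
  obtain ⟨c, hc⟩ := exists_fix hS hw1 hw2
  have hcf : ∀ x ∈ X, x • c = c := fun x hx => by
    refine fix_unique hS hw1 hw2 ?_ hc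
    rw [← mul_smul, ← Subgroup.mem_centralizer_iff.mp hw x hx, mul_smul, hc]
  obtain ⟨g, hg, hgc⟩ := cent_to_a hS hX h3 hcf
  set u := g * w * g⁻¹ with hu
  have hua : u • a = a := by rw [hu, mul_smul, mul_smul, inv_smul_eq_iff.mpr hgc.symm, hc, hgc]
  have hu1 : u ≠ 1 := fun e => hw1 (by rwa [hu, mul_inv_eq_one, mul_eq_left] at e)
  have hu2 : u * u = 1 := by
    rw [hu, show g * w * g⁻¹ * (g * w * g⁻¹) = g * (w * w) * g⁻¹ by group, hw2, mul_one, mul_inv_cancel]
  have humem : u ∈ Subgroup.centralizer X ⊓ Q :=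
    Subgroup.mem_inf.mpr ⟨mul_mem (mul_mem hg hw) (inv_mem hg), invol_mem_Q hS hua hu2⟩
  rw [even_iff_two_dvd, ← CfsgLib.Involutions.orderOf_eq_two_iff'.mpr ⟨hu2, hu1⟩, ← Subgroup.orderOf_mk u humem]
  exact orderOf_dvd_natCard _

theorem cent_stab :
    (Subgroup.centralizer X ⊓ Q) ⊔ (Subgroup.centralizer X ⊓ D a t) = Subgroup.centralizer X ⊓ stabilizer G a := by
  refine le_antisymm (sup_le (inf_le_inf_left _ hS.le) (inf_le_inf_left _ (D_le hS))) ?_
  intro g hg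
  obtain ⟨hgC, hga⟩ := Subgroup.mem_inf.mp hg
  obtain ⟨y, hy, d, hd, rfl⟩ := exists_decomp hS hga
  have hyC : y ∈ Subgroup.centralizer X := by
    refine cent_Q_mem hS hX hy fun x hx => ?_
    have h := cent_smul hS hX hgC (fun x hx => (fix_a hS hX hx).2) x hx
    rwa [mul_smul, ((mem_D hS).mp hd).2] at h
  refine Subgroup.mul_mem_sup (Subgroup.mem_inf.mpr ⟨hyC, hy⟩) (Subgroup.mem_inf.mpr ⟨?_, hd⟩)
  have := mul_mem (inv_mem hyC) hgC
  rwa [inv_mul_cancel_left] at this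

theorem conj_into_cent_t : ∃ k ∈ D a t, ∀ x ∈ X, k * x * k⁻¹ * t = t * (k * x * k⁻¹) := by
  obtain ⟨w, hw, hw2, hwa, hwb⟩ := exists_cent_swap hS hX h3
  have hk : t * w ∈ invertedBy (D a t) t := by
    refine ⟨?_, ?_⟩
    · show t * w ∈ D a t
      rw [mem_D hS, mul_smul, hwa, smul_smul_t hS, mul_smul, hwb]
      exact ⟨rfl, rfl⟩
    · rw [inv_t hS, ← mul_assoc t t, hS.mul_self, one_mul, eq_inv_iff_mul_eq_one]
      calc w * t * (t * w) = w * (t * t) * w := by group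
        _ = 1 := by rw [hS.mul_self, mul_one, hw2]
  obtain ⟨l, hl, hll⟩ := Inverted.exists_sqrt_inverted hS.odd_card (D_norm hS) hk
  refine ⟨l, hl.1, fun x hx => ?_⟩
  have hwx := Subgroup.mem_centralizer_iff.mp hw x hx
  have e : w = l⁻¹ * t * l := by
    calc w = t * (t * w) := by rw [← mul_assoc, hS.mul_self, one_mul]
      _ = t * l * t⁻¹ * (t * l) := by rw [← hll]; group
      _ = _ := by rw [hl.2]; group
  calc l * x * l⁻¹ * t = l * (x * w) * l⁻¹ := by rw [e]; group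
    _ = l * (w * x) * l⁻¹ := by rw [hwx]
    _ = _ := by rw [e]; group

end CfsgLib.RankOne
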