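/-
Split rank one groups: inverted elements act without fixed points on the regular subgroup, which
is therefore nilpotent with central involutions; products of two involutions.
-/
import Cfsg.Agent.Lib.RankOne.Structure
import Cfsg.Agent.Lib.Frobenius.FixedPointFree
import Cfsg.Agent.Lib.Elementary

set_option autoImplicit false
set_option linter.unusedSectionVars false

namespace CfsgLib.RankOne

open MulAction Cfsg

variable {G Ω : Type*} [Group G] [Finite G] [MulAction G Ω] {a : Ω} {t : G} {Q : Subgroup G}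
  (hS : IsRankOneSetup G Ω a t Q)

include hS

/-- If the odd order element `k` has a square commuting with `x`, then `k` commutes with `x`. -/
theorem comm_of_sq {k x : G} (hk : k ∈ D a t) (h : k * k * x = x * (k * k)) : k * x = x * k := by
  obtain ⟨m, hm⟩ : Odd (orderOf k) := by
    refine hS.odd_card.of_dvd_nat ?_
    rw [← Subgroup.orderOf_mk k hk]
    exact orderOf_dvd_natCard _
  have e : k = (k * k) ^ (m + 1) := by
    rw [← pow_two, ← pow_mul, show 2 * (m + 1) = orderOf k + 1 by omega, pow_succ, pow_orderOf_eq_one, one_mul]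
  have hc : Commute ((k * k) ^ (m + 1)) x := (show Commute (k * k) x from h).pow_left _
  rw [← e] at hc
  exact hc

/-- A non-identity inverted element of the two-point stabiliser fixes only two points. -/
theorem inverted_fix {x : G} (hx : x ∈ invertedBy (D a t) t) (hx1 : x ≠ 1) {c : Ω} (hc : x • c = c) :
    c = a ∨ c = t • a := by
  by_contra hcon
  rw [not_or] at hcon
  obtain ⟨hca, hcb⟩ := hcon
  obtain ⟨hxa, hxb⟩ := (mem_D hS).mp hx.1
  have hX : ({x} : Set G) ⊆ (D a t : Set G) := Set.singleton_subset_iff.mpr hx.1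
  have h3 : ∃ b c d : Ω, b ≠ c ∧ b ≠ d ∧ c ≠ d ∧ ∀ y ∈ ({x} : Set G), y • b = b ∧ y • c = c ∧ y • d = d := by
    refine ⟨a, t • a, c, (ta_ne hS).symm, Ne.symm hca, Ne.symm hcb, fun y hy => ?_⟩
    rw [Set.mem_singleton_iff] at hy
    subst hy
    exact ⟨hxa, hxb, hc⟩
  obtain ⟨w, hw, hw2, hwa, hwb⟩ := exists_cent_swap hS hX h3
  have hwx : x * w = w * x := Subgroup.mem_centralizer_iff.mp hw x (Set.mem_singleton x)
  have htt := hS.mul_self
  have hk : t * w ∈ D a t := by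
    rw [mem_D hS, mul_smul, hwa, smul_smul_t hS, mul_smul, hwb]
    exact ⟨rfl, rfl⟩
  have hti : t * x * t = x⁻¹ := by rw [← hx.2, inv_t hS]
  have hkinv : t * w * x * (t * w)⁻¹ = x⁻¹ := by
    rw [mul_assoc t w x, ← hwx, mul_inv_rev, inv_t hS]
    calc t * (x * w) * (w⁻¹ * t) = t * x * t := by group
      _ = x⁻¹ := hti
  have h2 : t * w * (t * w) * x = x * (t * w * (t * w)) := by
    have h1 : t * w * x⁻¹ * (t * w)⁻¹ = x := by
      rw [show t * w * x⁻¹ * (t * w)⁻¹ = (t * w * x * (t * w)⁻¹)⁻¹ by group, hkinv, inv_inv]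
    calc t * w * (t * w) * x = t * w * (t * w * x * (t * w)⁻¹) * (t * w) := by group
      _ = t * w * x⁻¹ * (t * w)⁻¹ * (t * w * (t * w)) := by rw [hkinv]; group
      _ = _ := by rw [h1]
  have h4 := comm_of_sq hS hk h2
  rw [h4, mul_inv_cancel_right] at hkinv
  refine hx1 (D_mul_self hS hx.1 ?_)
  calc x * x = x * x⁻¹ := by rw [← hkinv]
    _ = 1 := mul_inv_cancel x

theorem inverted_cent_Q {x : G} (hx : x ∈ invertedBy (D a t) t) (hx1 : x ≠ 1) {y : G} (hy : y ∈ Q)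
    (hc : x * y = y * x) : y = 1 := by
  have h : x • y • t • a = y • t • a := by
    rw [← mul_smul, hc, mul_smul, ((mem_D hS).mp hx.1).2]
  rcases inverted_fix hS hx hx1 h with h1 | h1
  · exact absurd (smul_left_cancel y (h1.trans (mem_Q_a hS hy).symm)) (ta_ne hS)
  · exact eq_one_of_fix_ta hS hy h1

theorem two_le_card_invol (h2 : ∃ x y : G, x ≠ 1 ∧ y ≠ 1 ∧ x ≠ y ∧ x * x = 1 ∧ y * y = 1 ∧ x * y = y * x) :
    ∃ s₁ ∈ involutionsIn (stabilizer G a : Set G), ∃ s₂ ∈ involutionsIn (stabilizer G a : Set G), s₁ ≠ s₂ := by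
  obtain ⟨x, y, hx1, hy1, hxy, hx2, hy2, hc⟩ := h2
  obtain ⟨c, hxc⟩ := exists_fix hS hx1 hx2
  have hyc : y • c = c := not_fix_of_commute hS hx1 hx2 hxc hc
  haveI := pretransitive hS
  obtain ⟨g, rfl⟩ := exists_smul_eq G a c
  have key : ∀ z : G, z ≠ 1 → z * z = 1 → z • g • a = g • a →
      g⁻¹ * z * g ∈ involutionsIn (stabilizer G a : Set G) := by
    intro z hz1 hz2 hzc
    refine ⟨?_, fun e => hz1 ?_, ?_⟩
    · show (g⁻¹ * z * g) • a = a
      rw [mul_smul, mul_smul, hzc, inv_smul_smul]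
    · calc z = g * (g⁻¹ * z * g) * g⁻¹ := by group
        _ = 1 := by rw [e, mul_one, mul_inv_cancel]
    · rw [show g⁻¹ * z * g * (g⁻¹ * z * g) = g⁻¹ * (z * z) * g by group, hz2, mul_one, inv_mul_cancel]
  exact ⟨_, key x hx1 hx2 hxc, _, key y hy1 hy2 hyc, fun e => hxy (mul_left_cancel (mul_right_cancel e))⟩

/-- The regular normal subgroup is nilpotent. -/
theorem nilpotent_Q (h2 : ∃ x y : G, x ≠ 1 ∧ y ≠ 1 ∧ x ≠ y ∧ x * x = 1 ∧ y * y = 1 ∧ x * y = y * x) :
    Group.IsNilpotent Q := by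
  obtain ⟨s₁, hs₁, s₂, hs₂, hne⟩ := two_le_card_invol hS h2
  obtain ⟨k, hk, hk12⟩ := exists_conj_inverted hS hs₁ hs₂
  have hk1 : k ≠ 1 := by
    intro e
    subst e
    simp at hk12
    exact hne hk12
  have hpp : (orderOf k).minFac.Prime := Nat.minFac_prime (fun e => hk1 (orderOf_eq_one_iff.mp e))
  set p := (orderOf k).minFac with hp
  set x := k ^ (orderOf k / p) with hx
  have hxp : orderOf x = p := orderOf_pow_orderOf_div (orderOf_pos k).ne' (Nat.minFac_dvd _)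
  have hx1 : x ≠ 1 := fun e => by
    rw [e, orderOf_one] at hxp
    exact hpp.one_lt.ne hxp
  have hxK : x ∈ invertedBy (D a t) t := by
    refine ⟨pow_mem hk.1 _, ?_⟩
    rw [hx, ← conj_pow, hk.2, inv_pow]
  have hxn : x ∈ Subgroup.normalizer (Q : Set G) := by
    rw [normalizer_Q hS]; exact D_le hS hxK.1
  set φ : MulAut Q := Q.normalizerMonoidHom ⟨x, hxn⟩ with hφ
  have hfpf : MonoidHom.FixedPointFree ((φ : Q ≃* Q) : Q →* Q) := by
    intro y hy
    have hy' : x * (y : G) * x⁻¹ = y := congrArg Subtype.val hy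
    exact Subtype.ext (inverted_cent_Q hS hxK hx1 y.2 (mul_inv_eq_iff_eq_mul.mp hy'))
  have hord : orderOf φ = p := by
    haveI := Fact.mk hpp
    refine orderOf_eq_prime ?_ ?_
    · rw [hφ, ← map_pow]
      have : (⟨x, hxn⟩ : Subgroup.normalizer (Q : Set G)) ^ p = 1 :=
        Subtype.ext (show x ^ p = 1 by rw [← hxp, pow_orderOf_eq_one])
      rw [this, map_one]
    · intro e
      obtain ⟨s, hsa, hs1, hs2⟩ := exists_invol hS
      have hsQ := invol_mem_Q hS hsa hs2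
      refine hs1 (congrArg Subtype.val (hfpf ⟨s, hsQ⟩ ?_))
      show φ ⟨s, hsQ⟩ = ⟨s, hsQ⟩
      rw [e]; rfl
  exact CfsgLib.Frob.isNilpotent_of_fpf_prime φ hfpf hpp hord

/-- The involutions of the point stabiliser are central in the regular normal subgroup. -/
theorem invol_central (h2 : ∃ x y : G, x ≠ 1 ∧ y ≠ 1 ∧ x ≠ y ∧ x * x = 1 ∧ y * y = 1 ∧ x * y = y * x)
    {s : G} (hs : s ∈ involutionsIn (stabilizer G a : Set G)) {y : G} (hy : y ∈ Q) : s * y = y * s := by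
  haveI := nilpotent_Q hS h2
  haveI := Fact.mk Nat.prime_two
  obtain ⟨P⟩ : Nonempty (Sylow 2 Q) := inferInstance
  haveI : (P : Subgroup Q).Normal :=
    ((Group.isNilpotent_of_finite_tfae (G := Q)).out 0 3 rfl rfl).mp inferInstance 2 inferInstance P
  have hPne : (P : Subgroup Q) ≠ ⊥ := P.ne_bot_of_dvd_card (even_iff_two_dvd.mp hS.even_card)
  have hne := CfsgLib.inf_center_ne_bot_of_nilpotent hPne
  have hP2 : IsPGroup 2 ↥((P : Subgroup Q) ⊓ Subgroup.center Q) := P.isPGroup'.to_le inf_le_left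
  haveI : Nontrivial ↥((P : Subgroup Q) ⊓ Subgroup.center Q) := (Subgroup.nontrivial_iff_ne_bot _).mpr hne
  obtain ⟨z, hz⟩ := exists_prime_orderOf_dvd_card' (G := ↥((P : Subgroup Q) ⊓ Subgroup.center Q)) 2
    (by
      obtain ⟨n, hn0, hn⟩ := hP2.nontrivial_iff_card.mp inferInstance
      rw [hn]
      exact dvd_pow_self 2 (by omega))
  obtain ⟨hz2, hz1⟩ := CfsgLib.Involutions.orderOf_eq_two_iff'.mp hz
  set z' : G := ((z : Q) : G) with hz'
  have hzI : z' ∈ involutionsIn (stabilizer G a : Set G) :=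
    ⟨hS.le (z : Q).2, fun e => hz1 (Subtype.ext (Subtype.ext e)),
      congrArg (fun w : ↥((P : Subgroup Q) ⊓ Subgroup.center Q) => ((w : Q) : G)) hz2⟩
  obtain ⟨k, hk, rfl⟩ := exists_conj_inverted hS hzI hs
  have hka : k • a = a := ((mem_D hS).mp hk.1).1
  have hc := congrArg Subtype.val
    (Subgroup.mem_center_iff.mp (Subgroup.mem_inf.mp z.2).2 ⟨k * y * k⁻¹, conj_Q hS hka hy⟩)
  have hc' : k * y * k⁻¹ * z' = z' * (k * y * k⁻¹) := hc
  calc k⁻¹ * z' * k * y = k⁻¹ * (z' * (k * y * k⁻¹)) * k := by group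
    _ = _ := by rw [← hc']; group

/-- Subsets of the centraliser of `t` in the two-point stabiliser: conjugacy is controlled there. -/
theorem conj_in_V (X : Set G) (hX : X ⊆ ((D a t ⊓ Subgroup.centralizer {t} : Subgroup G) : Set G)) (g : G)
    (hY : (fun x => g * x * g⁻¹) '' X ⊆ ((D a t ⊓ Subgroup.centralizer {t} : Subgroup G) : Set G)) :
    ∃ v ∈ D a t ⊓ Subgroup.centralizer {t}, (fun x => v * x * v⁻¹) '' X = (fun x => g * x * g⁻¹) '' X := by
  obtain ⟨⟨s, r⟩, ⟨hs, hr, he⟩, -⟩ := structure_eq hS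
  have hmemV : ∀ {z : G}, z ∈ D a t ⊓ Subgroup.centralizer {t} → z ∈ D a t ∧ t * z = z * t := fun hz =>
    ⟨(Subgroup.mem_inf.mp hz).1, (Subgroup.mem_centralizer_singleton_iff.mp (Subgroup.mem_inf.mp hz).2).symm⟩
  have hsa : s • a = a := hs.1
  have hsb : s • t • a ≠ t • a := fun e => ta_ne hS (fix_unique hS hs.2.1 hs.2.2 e hsa)
  have hsb' : s • t • a ≠ a := fun e => ta_ne hS (smul_left_cancel s (e.trans hsa.symm))
  have hfix : ∀ {z : G}, z ∈ D a t ⊓ Subgroup.centralizer {t} →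
      z • a = a ∧ z • t • a = t • a ∧ z • s • t • a = s • t • a := by
    intro z hz
    obtain ⟨hzD, hzt⟩ := hmemV hz
    obtain ⟨hza, hzb⟩ := (mem_D hS).mp hzD
    refine ⟨hza, hzb, ?_⟩
    rw [← mul_smul, ← cent_s_of_cent_t hS hs hr he hzD hzt, mul_smul, hzb]
  set Y := (fun x => g * x * g⁻¹) '' X with hYdef
  have hY3 : ∃ b c d : Ω, b ≠ c ∧ b ≠ d ∧ c ≠ d ∧ ∀ y ∈ Y, y • b = b ∧ y • c = c ∧ y • d = d :=
    ⟨a, t • a, s • t • a, (ta_ne hS).symm, hsb'.symm, hsb.symm, fun y hy => hfix (hY hy)⟩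
  obtain ⟨g', hg', e1, e2⟩ := cent_two_trans hS (X := Y) (fun y hy => (hmemV (hY hy)).1) hY3
    (b₁ := g • a) (b₂ := g • t • a) (c₁ := a) (c₂ := t • a)
    (by
      rintro _ ⟨x, hx, rfl⟩
      obtain ⟨h1, h2, -⟩ := hfix (hY ⟨x, hx, rfl⟩)
      obtain ⟨h3, h4, -⟩ := hfix (hX hx)
      refine ⟨?_, ?_, h1, h2⟩
      · show (g * x * g⁻¹) • g • a = g • a
        rw [mul_smul, inv_smul_smul, mul_smul, h3]
      · show (g * x * g⁻¹) • g • t • a = g • t • a
        rw [mul_smul, inv_smul_smul, mul_smul, h4])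
    (fun e => (ta_ne hS).symm (smul_left_cancel g e)) (ta_ne hS).symm
  have hd : g' * g ∈ D a t := by
    rw [mem_D hS, mul_smul, mul_smul]
    exact ⟨e1, e2⟩
  obtain ⟨⟨v, k⟩, ⟨hv, hk, hvk⟩, -⟩ := Inverted.decomp hS.odd_card (D_norm hS) hS.mul_self hd
  refine ⟨v, hv, Set.image_congr fun x hx => ?_⟩
  obtain ⟨hxD, hxt⟩ := hmemV (hX hx)
  obtain ⟨hvD, hvt⟩ := hmemV hv
  have hyt := (hmemV (hY ⟨x, hx, rfl⟩)).2
  have hyg : g' * g * x * (g' * g)⁻¹ = g * x * g⁻¹ := by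
    have h := Subgroup.mem_centralizer_iff.mp hg' _ ⟨x, hx, rfl⟩
    calc g' * g * x * (g' * g)⁻¹ = g' * (g * x * g⁻¹) * g'⁻¹ := by group
      _ = g * x * g⁻¹ := by rw [← h, mul_inv_cancel_right]
  rw [show g' * g = v * k from hvk] at hyg
  have h1 : v * k⁻¹ * x * (v * k⁻¹)⁻¹ = v * k * x * (v * k)⁻¹ := by
    have e : t * (v * k * x * (v * k)⁻¹) * t⁻¹ = v * k⁻¹ * x * (v * k⁻¹)⁻¹ := by
      calc t * (v * k * x * (v * k)⁻¹) * t⁻¹
          = t * v * t⁻¹ * (t * k * t⁻¹) * (t * x * t⁻¹) * (t * v * t⁻¹ * (t * k * t⁻¹))⁻¹ := by group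
        _ = _ := by rw [hk.2, hvt, hxt, mul_inv_cancel_right, mul_inv_cancel_right]
    rw [← e, hyg, hyt, mul_inv_cancel_right]
  have h2 : k * k * x = x * (k * k) := by
    calc k * k * x = k * v⁻¹ * (v * k * x * (v * k)⁻¹) * v * k := by group
      _ = _ := by rw [← h1]; group
  have h3 := comm_of_sq hS hk.1 h2
  show v * x * v⁻¹ = g * x * g⁻¹
  rw [← hyg]
  calc v * x * v⁻¹ = v * (x * k) * k⁻¹ * v⁻¹ := by group
    _ = _ := by rw [← h3]; group

/-- A product of two involutions with non-trivial square. -/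
theorem prod_invol (h2 : ∃ x y : G, x ≠ 1 ∧ y ≠ 1 ∧ x ≠ y ∧ x * x = 1 ∧ y * y = 1 ∧ x * y = y * x)
    {u v : G} (hu1 : u ≠ 1) (hu2 : u * u = 1) (hv1 : v ≠ 1) (hv2 : v * v = 1)
    (hx : (u * v) * (u * v) ≠ 1) :
    ∃ g : G, ∃ u' ∈ involutionsIn (stabilizer G a : Set G), g * (u * v) * g⁻¹ = u' * t := by
  have hconj : ∀ (g : G) {z : G}, z ≠ 1 → z * z = 1 → g * z * g⁻¹ ≠ 1 ∧ g * z * g⁻¹ * (g * z * g⁻¹) = 1 := by
    intro g z h1 h2
    refine ⟨fun e => h1 ?_, ?_⟩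
    · rwa [mul_inv_eq_one, mul_eq_left] at e
    · rw [show g * z * g⁻¹ * (g * z * g⁻¹) = g * (z * z) * g⁻¹ by group, h2, mul_one, mul_inv_cancel]
  obtain ⟨g1, hg1⟩ := invol_conj hS hv1 hv2 hS.ne_one hS.mul_self
  obtain ⟨hu1', hu2'⟩ := hconj g1 hu1 hu2
  set u1 := g1 * u * g1⁻¹ with hu1def
  obtain ⟨c, hc⟩ := exists_fix hS hS.ne_one hS.mul_self
  obtain ⟨p, hp⟩ := exists_fix hS hu1' hu2'
  haveI := pretransitive hS
  obtain ⟨g2, hg2⟩ := exists_smul_eq G a c
  -- the conjugate of `t` fixing `a` is central in `Q`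
  obtain ⟨hs1', hs2'⟩ := hconj g2⁻¹ hS.ne_one hS.mul_self
  set s' := g2⁻¹ * t * g2⁻¹⁻¹ with hs'
  have hsI : s' ∈ involutionsIn (stabilizer G a : Set G) := by
    refine ⟨?_, hs1', hs2'⟩
    show s' • a = a
    rw [hs', inv_inv, mul_smul, mul_smul, hg2, hc, ← hg2, inv_smul_smul]
  have hpc : p ≠ c := by
    intro e
    subst e
    -- both involutions fix `p`
    have hwI : g2⁻¹ * u1 * g2⁻¹⁻¹ ∈ involutionsIn (stabilizer G a : Set G) := by
      obtain ⟨hw1, hw2⟩ := hconj g2⁻¹ hu1' hu2'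
      refine ⟨?_, hw1, hw2⟩
      show (g2⁻¹ * u1 * g2⁻¹⁻¹) • a = a
      rw [inv_inv, mul_smul, mul_smul, hg2, hp, ← hg2, inv_smul_smul]
    have hcm := invol_central hS h2 hsI (invol_mem_Q hS hwI.1 hwI.2.2)
    have h5 : t * u1 = u1 * t := by
      calc t * u1 = g2 * (s' * (g2⁻¹ * u1 * g2⁻¹⁻¹)) * g2⁻¹ := by rw [hs']; group
        _ = _ := by rw [hcm, hs']; group
    refine hx ?_
    have h6 : u1 * t * (u1 * t) = 1 := by
      calc u1 * t * (u1 * t) = u1 * (t * u1) * t := by group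
        _ = u1 * u1 * (t * t) := by rw [h5]; group
        _ = 1 := by rw [hu2', hS.mul_self, mul_one]
    rw [← hg1, hu1def] at h6
    calc u * v * (u * v) = g1⁻¹ * (g1 * u * g1⁻¹ * (g1 * v * g1⁻¹) * (g1 * u * g1⁻¹ * (g1 * v * g1⁻¹))) * g1 := by
          group
      _ = 1 := by rw [h6, mul_one, inv_mul_cancel]
  have hca : c ≠ a := fun e => ta_ne hS (e ▸ hc)
  have hp' : g2⁻¹ • p ≠ a := fun e => hpc (by rw [inv_smul_eq_iff.mp e, hg2])
  have ha' : g2⁻¹ • a ≠ a := fun e => hca (by rw [← hg2, ← inv_smul_eq_iff.mp e])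
  obtain ⟨⟨y, hyQ⟩, hy, -⟩ := exists_unique_Q hS hp' ha'
  have hy' : y • g2⁻¹ • p = g2⁻¹ • a := hy
  set h := g2 * y * g2⁻¹ with hh
  have hht : h * t * h⁻¹ = t := by
    have hcm := invol_central hS h2 hsI hyQ
    rw [hh]
    calc g2 * y * g2⁻¹ * t * (g2 * y * g2⁻¹)⁻¹ = g2 * (y * s') * y⁻¹ * g2⁻¹ := by rw [hs']; group
      _ = t := by rw [← hcm, hs']; group
  have hhp : h • p = a := by rw [hh, mul_smul, mul_smul, hy', smul_inv_smul]
  obtain ⟨hf1, hf2⟩ := hconj h hu1' hu2'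
  refine ⟨h * g1, h * u1 * h⁻¹, ⟨?_, hf1, hf2⟩, ?_⟩
  · show (h * u1 * h⁻¹) • a = a
    rw [mul_smul, mul_smul, inv_smul_eq_iff.mpr hhp.symm, hp, hhp]
  · calc h * g1 * (u * v) * (h * g1)⁻¹ = h * u1 * h⁻¹ * (h * (g1 * v * g1⁻¹) * h⁻¹) := by rw [hu1def]; group
      _ = _ := by rw [hg1, hht]

/-- The centraliser of `u * t` has odd order. -/
theorem odd_cent {u : G} (hu : u ∈ involutionsIn (stabilizer G a : Set G)) :
    Odd (Nat.card ↥(Subgroup.centralizer {u * t})) := by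
  by_contra heven
  rw [Nat.not_odd_iff_even, even_iff_two_dvd] at heven
  haveI := Fact.mk Nat.prime_two
  obtain ⟨⟨y, hyC⟩, hyord⟩ := exists_prime_orderOf_dvd_card' (G := ↥(Subgroup.centralizer {u * t})) 2 heven
  rw [Subgroup.orderOf_mk] at hyord
  obtain ⟨hy2, hy1⟩ := CfsgLib.Involutions.orderOf_eq_two_iff'.mp hyord
  have hyc : u * t * y = y * (u * t) := (Subgroup.mem_centralizer_singleton_iff.mp hyC).symm
  obtain ⟨c, hc⟩ := exists_fix hS hy1 hy2
  have htt := hS.mul_self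
  set x := u * t with hxdef
  have hinv : t * x * t = x⁻¹ := by
    rw [hxdef, mul_inv_rev, inv_t hS, inv_eq_of_mul_eq_one_right hu.2.2]
    simp [mul_assoc, htt]
  have hx1 : x ≠ 1 := by
    intro e
    refine hS.not_mem ?_
    rw [show t = u⁻¹ from eq_inv_of_mul_eq_one_right e]
    exact inv_mem hu.1
  have hxc : x • c = c := by
    refine fix_unique hS hy1 hy2 ?_ hc
    rw [← mul_smul, ← hyc, mul_smul, hc]
  have hxtc : x • t • c = t • c := by
    have h1 : x⁻¹ • c = c := inv_smul_eq_iff.mpr hxc.symm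
    calc x • t • c = t • (t * x * t) • c := by simp only [mul_smul, smul_smul_t hS]
      _ = t • c := by rw [hinv, h1]
  have htc : t • c ≠ c := by
    intro e
    have huc : u • c = c := by
      have e1 : u • c = x • t • c := by rw [hxdef, mul_smul, smul_smul_t hS]
      rw [e1, hxtc, e]
    have hca := fix_unique hS hu.2.1 hu.2.2 huc hu.1
    rw [hca] at e
    exact ta_ne hS e
  set d := y • t • c with hddef
  have hd1 : d ≠ t • c := fun e => htc (fix_unique hS hy1 hy2 e hc)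
  have hd2 : d ≠ c := fun e => htc (smul_left_cancel y (e.trans hc.symm))
  have hxd : x • d = d := by rw [hddef, ← mul_smul, hyc, mul_smul, hxtc]
  obtain ⟨g, hgc, hgtc⟩ := two_pt hS (p := c) (q := t • c) (p' := a) (q' := t • a) htc.symm (ta_ne hS).symm
  set w := g * t * g⁻¹ with hw
  have hgi1 : g⁻¹ • a = c := inv_smul_eq_iff.mpr hgc.symm
  have hgi2 : g⁻¹ • t • a = t • c := inv_smul_eq_iff.mpr hgtc.symm
  have hwa : w • a = t • a := by rw [hw, mul_smul, mul_smul, hgi1, hgtc]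
  have hwb : w • t • a = a := by rw [hw, mul_smul, mul_smul, hgi2, smul_smul_t hS, hgc]
  have hw2 : w * w = 1 := by
    rw [hw, show g * t * g⁻¹ * (g * t * g⁻¹) = g * (t * t) * g⁻¹ by group, htt, mul_one, mul_inv_cancel]
  have hk : t * w ∈ invertedBy (D a t) t := by
    refine ⟨?_, ?_⟩
    · show t * w ∈ D a t
      rw [mem_D hS, mul_smul, hwa, smul_smul_t hS, mul_smul, hwb]
      exact ⟨rfl, rfl⟩
    · rw [inv_t hS, ← mul_assoc t t, htt, one_mul, eq_inv_iff_mul_eq_one]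
      calc w * t * (t * w) = w * (t * t) * w := by group
        _ = 1 := by rw [htt, mul_one, hw2]
  obtain ⟨l, hl, hll⟩ := Inverted.exists_sqrt_inverted hS.odd_card (D_norm hS) hk
  obtain ⟨hla, hlb⟩ := (mem_D hS).mp hl.1
  have hwl : w = l⁻¹ * t * l := by
    calc w = t * (t * w) := by rw [← mul_assoc, htt, one_mul]
      _ = t * l * t⁻¹ * (t * l) := by rw [← hll]; group
      _ = _ := by rw [hl.2]; group
  set m := l * g with hm
  have htm : m * t * m⁻¹ = t := by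
    calc m * t * m⁻¹ = l * w * l⁻¹ := by rw [hm, hw]; group
      _ = t := by rw [hwl]; group
  have hma : m • c = a := by rw [hm, mul_smul, hgc, hla]
  have hmb : m • t • c = t • a := by rw [hm, mul_smul, hgtc, hlb]
  have hmi : ∀ q : Ω, x • q = q → (m * x * m⁻¹) • m • q = m • q := by
    intro q hq
    rw [mul_smul, inv_smul_smul, mul_smul, hq]
  have hX : m * x * m⁻¹ ∈ invertedBy (D a t) t := by
    refine ⟨?_, ?_⟩
    · show m * x * m⁻¹ ∈ D a t
      rw [mem_D hS, ← hma]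
      refine ⟨hmi c hxc, ?_⟩
      rw [hma, ← hmb]
      exact hmi _ hxtc
    · conv_lhs => rw [← htm]
      calc m * t * m⁻¹ * (m * x * m⁻¹) * (m * t * m⁻¹)⁻¹ = m * (t * x * t⁻¹) * m⁻¹ := by group
        _ = _ := by rw [inv_t hS, hinv]; group
  have hX1 : m * x * m⁻¹ ≠ 1 := fun e => hx1 (by rwa [mul_inv_eq_one, mul_eq_left] at e)
  rcases inverted_fix hS hX hX1 (hmi d hxd) with e | e
  · exact hd2 (smul_left_cancel m (e.trans hma.symm))
  · exact hd1 (smul_left_cancel m (e.trans hmb.symm))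

end CfsgLib.RankOne
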