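/-
The odd core of a split rank one group with two commuting involutions.
-/
import Cfsg.Agent.Lib.RankOne.Basic
import Cfsg.Agent.Lib.Basic
import Cfsg.Agent.Lib.CoprimeGen

set_option autoImplicit false
set_option linter.unusedSectionVars false

namespace CfsgLib.RankOne

open MulAction Cfsg

variable {G Ω : Type*} [Group G] [Finite G] [MulAction G Ω] {a : Ω} {t : G} {Q : Subgroup G}
  (hS : IsRankOneSetup G Ω a t Q)

include hS

theorem oddCore_eq (h2 : ∃ x y : G, x ≠ 1 ∧ y ≠ 1 ∧ x ≠ y ∧ x * x = 1 ∧ y * y = 1 ∧ x * y = y * x) :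
    Cfsg.pPrimeCore 2 G = (stabilizer G a).normalCore := by
  obtain ⟨x, y, hx1, hy1, hxy, hx2, hy2, hc⟩ := h2
  set O := Cfsg.pPrimeCore 2 G
  haveI := pretransitive hS
  refine le_antisymm ?_ ?_
  · rw [Subgroup.normal_le_normalCore]
    obtain ⟨c, hxc⟩ := exists_fix hS hx1 hx2
    have hyc : y • c = c := not_fix_of_commute hS hx1 hx2 hxc hc
    set A := Subgroup.closure ({x, y} : Set G)
    haveI : IsMulCommutative A := by
      refine Subgroup.isMulCommutative_closure ?_
      intro p hp q hq
      simp only [Set.mem_insert_iff, Set.mem_singleton_iff] at hp hq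
      rcases hp with rfl | rfl <;> rcases hq with rfl | rfl <;> first | rfl | exact hc | exact hc.symm
    have hA : ∀ z ∈ A, z * z = 1 ∧ z • c = c := by
      intro z hz
      induction hz using Subgroup.closure_induction with
      | mem p hp =>
        rcases hp with rfl | rfl
        · exact ⟨hx2, hxc⟩
        · exact ⟨hy2, hyc⟩
      | one => exact ⟨one_mul 1, one_smul _ _⟩
      | mul p q hp hq ihp ihq =>
        refine ⟨?_, by rw [mul_smul, ihq.2, ihp.2]⟩
        have hpq : p * q = q * p := Subgroup.mul_comm_of_mem_isMulCommutative A hp hq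
        calc p * q * (p * q) = p * (q * p) * q := by group
          _ = (p * p) * (q * q) := by rw [← hpq]; group
          _ = 1 := by rw [ihp.1, ihq.1, mul_one]
      | inv p _ ihp => exact ⟨by rw [← mul_inv_rev, ihp.1, inv_one], by rw [inv_smul_eq_iff, ihp.2]⟩
    have hxA : x ∈ A := Subgroup.subset_closure (Or.inl rfl)
    have hyA : y ∈ A := Subgroup.subset_closure (Or.inr rfl)
    have hcyc : ¬ IsCyclic A := by
      intro hA'
      obtain ⟨g, hg⟩ := hA'.exists_generator
      have hg2 : g ^ 2 = 1 := Subtype.ext (by simpa [pow_two] using (hA g g.2).1)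
      have hall : ∀ z : A, z = 1 ∨ z = g := fun z => by
        obtain ⟨n, rfl⟩ := hg z
        obtain ⟨k, rfl | rfl⟩ := Int.even_or_odd' n
        · left; simp [zpow_mul, zpow_ofNat, hg2]
        · right; simp [zpow_add, zpow_mul, zpow_ofNat, hg2]
      rcases hall ⟨x, hxA⟩ with h | h
      · exact hx1 (congrArg Subtype.val h)
      rcases hall ⟨y, hyA⟩ with h' | h'
      · exact hy1 (congrArg Subtype.val h')
      exact hxy (congrArg Subtype.val (h.trans h'.symm))
    have hnorm : A ≤ Subgroup.normalizer (O : Set G) := by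
      rw [Subgroup.normalizer_eq_top]; exact le_top
    have hcop : (Nat.card A).Coprime (Nat.card O) := by
      have hA2 : IsPGroup 2 A := fun z => ⟨1, Subtype.ext (by simpa [pow_two] using (hA z z.2).1)⟩
      obtain ⟨n, hn⟩ := IsPGroup.iff_card.mp hA2
      rw [hn]
      exact Nat.Coprime.pow_left _ (CfsgLib.card_pPrimeCore_coprime 2).symm
    have hfix : O ≤ stabilizer G c := by
      rw [← CfsgLib.coprime_generated_by_centralizers hcyc hnorm hcop]
      refine iSup₂_le fun e he z hz => ?_
      exact mem_stabilizer_iff.mpr (not_fix_of_commute hS he.2 (hA e he.1).1 (hA e he.1).2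
        (Subgroup.mem_centralizer_singleton_iff.mp (Subgroup.mem_inf.mp hz).2).symm)
    obtain ⟨g, rfl⟩ := exists_smul_eq G a c
    intro z hz
    have h1 : g * z * g⁻¹ ∈ O := (inferInstance : O.Normal).conj_mem z hz g
    have h3 : (g * z * g⁻¹) • g • a = g • a := hfix h1
    rw [mul_smul, inv_smul_smul, mul_smul, smul_left_cancel_iff] at h3
    exact h3
  · haveI := Subgroup.normalCore_normal (stabilizer G a)
    refine CfsgLib.le_pPrimeCore ?_
    have hle : (stabilizer G a).normalCore ≤ D a t := by
      intro n hn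
      refine (mem_D hS).mpr ⟨Subgroup.normalCore_le _ hn, ?_⟩
      have h1 : t⁻¹ * n * t ∈ stabilizer G a :=
        Subgroup.normalCore_le _ (by
          have := (inferInstance : (stabilizer G a).normalCore.Normal).conj_mem n hn t⁻¹
          rwa [inv_inv] at this)
      rw [mem_stabilizer_iff, mul_smul, mul_smul, inv_smul_eq_iff] at h1
      exact h1
    exact Nat.Coprime.coprime_dvd_left (Subgroup.card_dvd_of_le hle) (Nat.coprime_two_right.mpr hS.odd_card)

end CfsgLib.RankOne
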