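/-
Additive and quadratic maps of a finite field as combinations of automorphisms.
-/
import Mathlib

set_option autoImplicit false

namespace CfsgLib.RankOne.FieldMaps

variable {F : Type*} [Field F] [Fintype F]

theorem linIndep : LinearIndependent F (fun σ : F ≃+* F => ((σ : F →+* F) : F → F)) := by
  have h := (linearIndependent_monoidHom F F).comp (fun σ : F ≃+* F => ((σ : F →+* F) : F →* F))
    (fun σ τ e => RingEquiv.ext fun x => DFunLike.congr_fun e x)
  exact h

variable [CharP F 2]

theorem card_aut : ∃ n, 0 < n ∧ Fintype.card F = 2 ^ n ∧ n ≤ Nat.card (F ≃+* F) := by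
  classical
  haveI := Fact.mk Nat.prime_two
  obtain ⟨n, -, hn⟩ := FiniteField.card F 2
  refine ⟨n, n.pos, hn, ?_⟩
  haveI : Finite (F ≃+* F) := Finite.of_injective (fun σ => (σ : F → F)) DFunLike.coe_injective
  let fr : Fin n → (F ≃+* F) := fun i => RingEquiv.ofBijective (iterateFrobenius F 2 i.val)
    (Finite.injective_iff_bijective.mp (iterateFrobenius F 2 i.val).injective)
  have hinj : Function.Injective fr := by
    intro i j e
    obtain ⟨g, hg⟩ := IsCyclic.exists_ofOrder_eq_natCard (α := Fˣ)
    have h := RingEquiv.congr_fun e (g : F)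
    simp only [fr, RingEquiv.ofBijective_apply, iterateFrobenius_def] at h
    have h' : g ^ 2 ^ i.val = g ^ 2 ^ j.val := Units.ext (by simpa using h)
    rw [pow_eq_pow_iff_modEq, hg, Nat.card_units, Nat.card_eq_fintype_card, hn] at h'
    have hlt : ∀ k : Fin n, 2 ^ k.val < 2 ^ (n : ℕ) - 1 ∨ (n : ℕ) = 1 := by
      intro k
      by_cases h1 : (n : ℕ) = 1
      · exact Or.inr h1
      · left
        have h2 : 2 ^ k.val * 2 ≤ 2 ^ (n : ℕ) := by
          rw [← pow_succ]; exact Nat.pow_le_pow_right (by norm_num) k.isLt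
        have h3 : 4 ≤ 2 ^ (n : ℕ) :=
          le_trans (by norm_num) (Nat.pow_le_pow_right (by norm_num : 0 < 2) (show 2 ≤ (n : ℕ) by have := n.pos; omega))
        omega
    rcases hlt i with hi | hi
    · rcases hlt j with hj | hj
      · exact Fin.ext (Nat.pow_right_injective le_rfl (h'.eq_of_lt_of_lt hi hj))
      · exact Fin.ext (by have := i.isLt; have := j.isLt; omega)
    · exact Fin.ext (by have := i.isLt; have := j.isLt; omega)
  simpa using Nat.card_le_card_of_injective fr hinj

/-- The combination of automorphisms with given coefficients. -/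
noncomputable def comb [Fintype (F ≃+* F)] (c : (F ≃+* F) → F) : F →+ F :=
  ∑ σ : F ≃+* F, (AddMonoidHom.mulLeft (c σ)).comp (σ : F ≃+ F).toAddMonoidHom

theorem comb_apply [Fintype (F ≃+* F)] (c : (F ≃+* F) → F) (x : F) : comb c x = ∑ σ, c σ * σ x := by
  simp [comb]

theorem comb_injective [Fintype (F ≃+* F)] : Function.Injective (comb (F := F)) := by
  intro c c' e
  have h := linIndep (F := F)
  rw [Fintype.linearIndependent_iff] at h
  funext σ
  refine sub_eq_zero.mp (h (fun τ => c τ - c' τ) (funext fun x => ?_) σ)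
  simp only [Finset.sum_apply, Pi.smul_apply, smul_eq_mul, Pi.zero_apply, sub_mul, Finset.sum_sub_distrib]
  have h1 := DFunLike.congr_fun e x
  rw [comb_apply, comb_apply] at h1
  rw [sub_eq_zero]
  exact h1

theorem comb_bijective [Fintype (F ≃+* F)] : Function.Bijective (comb (F := F)) := by
  classical
  haveI := Fact.mk Nat.prime_two
  letI := ZMod.algebra F 2
  obtain ⟨n, -, hn, hle⟩ := card_aut (F := F)
  let b := Module.finBasis (ZMod 2) F
  have hd : Module.finrank (ZMod 2) F = n := by
    have := Module.card_eq_pow_finrank (K := ZMod 2) (V := F)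
    rw [hn, ZMod.card] at this
    exact (Nat.pow_right_injective le_rfl this).symm
  haveI : Finite (F →+ F) := Finite.of_injective (fun f => (f : F → F)) DFunLike.coe_injective
  refine comb_injective.bijective_of_nat_card_le ?_
  have hinj : Function.Injective (fun (f : F →+ F) (i : Fin (Module.finrank (ZMod 2) F)) => f (b i)) := by
    intro f g e
    have : f.toZModLinearMap 2 = g.toZModLinearMap 2 := b.ext fun i => congrFun e i
    exact AddMonoidHom.toZModLinearMap_injective 2 this
  refine (Nat.card_le_card_of_injective _ hinj).trans ?_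
  rw [Nat.card_fun, Nat.card_fun, Nat.card_fin, hd]
  exact Nat.pow_le_pow_right Nat.card_pos hle

theorem span (f : F →+ F) : ∃ (s : Finset (F ≃+* F)) (c : (F ≃+* F) → F), ∀ x : F, f x = ∑ σ ∈ s, c σ * σ x := by
  classical
  haveI : Finite (F ≃+* F) := Finite.of_injective (fun σ => (σ : F → F)) DFunLike.coe_injective
  haveI : Fintype (F ≃+* F) := Fintype.ofFinite _
  obtain ⟨c, rfl⟩ := comb_bijective.2 f
  exact ⟨Finset.univ, c, fun x => comb_apply c x⟩

theorem bilin (B : F →+ F →+ F) : ∃ (s : Finset ((F ≃+* F) × (F ≃+* F))) (c : (F ≃+* F) × (F ≃+* F) → F),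
    ∀ x y : F, B x y = ∑ p ∈ s, c p * (p.1 x * p.2 y) := by
  classical
  haveI : Finite (F ≃+* F) := Finite.of_injective (fun σ => (σ : F → F)) DFunLike.coe_injective
  haveI : Fintype (F ≃+* F) := Fintype.ofFinite _
  choose c hc using fun x => comb_bijective.2 (B x)
  have hadd : ∀ τ, ∃ d : (F ≃+* F) → F, ∀ x, c x τ = ∑ σ, d σ * σ x := by
    intro τ
    have h : ∀ x y, c (x + y) = c x + c y := fun x y => comb_injective (AddMonoidHom.ext fun z => by
      rw [hc, map_add, AddMonoidHom.add_apply, ← hc x, ← hc y, comb_apply, comb_apply, comb_apply,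
        ← Finset.sum_add_distrib]
      exact Finset.sum_congr rfl fun σ _ => by rw [Pi.add_apply, add_mul])
    obtain ⟨d, hd⟩ := comb_bijective.2 (AddMonoidHom.mk' (fun x => c x τ) fun x y => congrFun (h x y) τ)
    exact ⟨d, fun x => (DFunLike.congr_fun hd x).symm.trans (comb_apply d x)⟩
  choose d hd using hadd
  refine ⟨Finset.univ, fun p => d p.2 p.1, fun x y => ?_⟩
  rw [← hc x, comb_apply, Fintype.sum_prod_type, Finset.sum_comm]
  refine Finset.sum_congr rfl fun τ _ => ?_
  rw [hd, Finset.sum_mul]
  exact Finset.sum_congr rfl fun σ _ => by ring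

/-- The polar map of a quadratic map. -/
def polar (d : F → F)
    (hd : ∀ x y z : F, d (x + y + z) + d (x + y) + d (x + z) + d (y + z) + d x + d y + d z = 0) : F →+ F →+ F :=
  AddMonoidHom.mk' (fun x => AddMonoidHom.mk' (fun y => d (x + y) + d x + d y)
      (fun y z => by
        rw [← add_assoc]
        linear_combination hd x y z - (d (x + y) + d (x + z) + d x + d y + d z + d x) * (CharTwo.two_eq_zero (R := F)) +
          d x * (CharTwo.two_eq_zero (R := F))))
    (fun x y => AddMonoidHom.ext fun z => by
      simp only [AddMonoidHom.mk'_apply, AddMonoidHom.add_apply]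
      linear_combination hd x y z - (d (x + z) + d (y + z) + d x + d y + d z) * (CharTwo.two_eq_zero (R := F)))

theorem quadratic (q : F → F)
    (hq : ∀ x y z : F, q (x + y + z) + q (x + y) + q (x + z) + q (y + z) + q x + q y + q z = 0) :
    ∃ (s : Finset ((F ≃+* F) × (F ≃+* F))) (c : (F ≃+* F) × (F ≃+* F) → F),
      ∀ x : F, q x = ∑ p ∈ s, c p * (p.1 x * p.2 x) := by
  classical
  haveI : Finite (F ≃+* F) := Finite.of_injective (fun σ => (σ : F → F)) DFunLike.coe_injective
  haveI : Fintype (F ≃+* F) := Fintype.ofFinite _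
  haveI := Fact.mk Nat.prime_two
  letI := ZMod.algebra F 2
  have h2 : (2 : F) = 0 := CharTwo.two_eq_zero
  let b := Module.finBasis (ZMod 2) F
  let B : F → F → F := fun x y => q (x + y) + q x + q y
  let ξ : Fin (Module.finrank (ZMod 2) F) → F →+ F := fun i =>
    (algebraMap (ZMod 2) F).toAddMonoidHom.comp (b.coord i).toAddMonoidHom
  let A : Fin (Module.finrank (ZMod 2) F) → Fin (Module.finrank (ZMod 2) F) → F := fun i j =>
    if i = j then q (b i) else if i < j then B (b i) (b j) else 0
  let r : F → F := fun x => ∑ i, ∑ j, A i j * (ξ i x * ξ j x)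
  let δ : F → F := fun x => q x + r x
  have hξ : ∀ i j, ξ i (b j) = if j = i then 1 else 0 := by
    intro i j
    show algebraMap (ZMod 2) F (b.coord i (b j)) = _
    rw [Module.Basis.coord_apply, Module.Basis.repr_self, Finsupp.single_apply]
    split_ifs <;> simp
  have hδ : ∀ x y z : F, δ (x + y + z) + δ (x + y) + δ (x + z) + δ (y + z) + δ x + δ y + δ z = 0 := by
    intro x y z
    have hr : r (x + y + z) + r (x + y) + r (x + z) + r (y + z) + r x + r y + r z = 0 := by
      simp only [r, ← Finset.sum_add_distrib]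
      refine Finset.sum_eq_zero fun i _ => Finset.sum_eq_zero fun j _ => ?_
      simp only [map_add]
      linear_combination (A i j * (2 * (ξ i x * ξ j x + ξ i y * ξ j y + ξ i z * ξ j z) +
        (ξ i x * ξ j y + ξ i y * ξ j x + ξ i x * ξ j z + ξ i z * ξ j x + ξ i y * ξ j z + ξ i z * ξ j y))) * h2
    simp only [δ]
    linear_combination hq x y z + hr
  let Bδ : F →+ F →+ F := polar δ hδ
  have hdiag : ∀ k, r (b k) = q (b k) := by
    intro k
    simp only [r, hξ]
    rw [Finset.sum_eq_single k, Finset.sum_eq_single k] <;> simp +contextual [A, eq_comm]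
  have hδb : ∀ k, δ (b k) = 0 := fun k => by
    show q (b k) + r (b k) = 0
    rw [hdiag]; linear_combination (q (b k)) * h2
  have hq0 : q 0 = 0 := by
    have := hq 0 0 0
    simp only [add_zero] at this
    linear_combination this - 3 * q 0 * h2
  have hr0 : r 0 = 0 := by simp [r]
  have hδ0 : δ 0 = 0 := by show q 0 + r 0 = 0; rw [hq0, hr0, add_zero]
  have hpair : ∀ k l, Bδ (b k) (b l) = 0 := by
    intro k l
    show δ (b k + b l) + δ (b k) + δ (b l) = 0
    rw [hδb, hδb, add_zero, add_zero]
    by_cases hkl : k = l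
    · subst hkl; rw [CharTwo.add_self_eq_zero, hδ0]
    show q (b k + b l) + r (b k + b l) = 0
    have hr : r (b k + b l) = q (b k) + q (b l) + B (b k) (b l) := by
      have e : ∀ i, ξ i (b k + b l) = (if k = i then 1 else 0) + (if l = i then 1 else 0) := fun i => by
        rw [map_add, hξ, hξ]
      simp only [r, e, add_mul, mul_add, Finset.sum_add_distrib, ite_mul, mul_ite, one_mul, mul_one, zero_mul,
        mul_zero, Finset.sum_ite_eq, Finset.mem_univ, if_true]
      rcases lt_or_gt_of_ne hkl with h | h
      · simp [A, hkl, Ne.symm hkl, h, not_lt.mpr h.le]; ring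
      · simp [A, hkl, Ne.symm hkl, h, not_lt.mpr h.le]
        rw [show B (b k) (b l) = B (b l) (b k) by simp only [B, add_comm (b l) (b k)]; ring]
        ring
    rw [hr]
    show q (b k + b l) + (q (b k) + q (b l) + (q (b k + b l) + q (b k) + q (b l))) = 0
    linear_combination (q (b k + b l) + q (b k) + q (b l)) * h2
  have hzero : Bδ = 0 := by
    refine AddMonoidHom.ext fun x => ?_
    have h2' : ∀ k, Bδ (b k) = 0 := fun k =>
      AddMonoidHom.toZModLinearMap_injective 2 (b.ext fun l => hpair k l)
    refine AddMonoidHom.ext fun y => ?_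
    let g : F →+ F := AddMonoidHom.mk' (fun x => Bδ x y) fun u v => by
      rw [map_add, AddMonoidHom.add_apply]
    have hg : g = 0 := AddMonoidHom.toZModLinearMap_injective 2 (b.ext fun k => by
      show Bδ (b k) y = 0
      rw [h2']; rfl)
    exact DFunLike.congr_fun hg x
  have hall : ∀ x, δ x = 0 := by
    let g : F →+ F := AddMonoidHom.mk' δ fun u v => by
      have h : δ (u + v) + δ u + δ v = 0 := DFunLike.congr_fun (DFunLike.congr_fun hzero u) v
      linear_combination h - (δ u + δ v) * h2
    have hg : g = 0 := AddMonoidHom.toZModLinearMap_injective 2 (b.ext hδb)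
    exact fun x => DFunLike.congr_fun hg x
  choose e he using fun i => comb_bijective.2 (ξ i)
  refine ⟨Finset.univ, fun p => ∑ i, ∑ j, A i j * (e i p.1 * e j p.2), fun x => ?_⟩
  have hx : q x = r x := by
    have h : q x + r x = 0 := hall x
    linear_combination h - r x * h2
  rw [hx]
  calc r x = ∑ i, ∑ j, ∑ σ, ∑ τ, A i j * (e i σ * e j τ) * (σ x * τ x) := by
        refine Finset.sum_congr rfl fun i _ => Finset.sum_congr rfl fun j _ => ?_
        rw [← he i, ← he j, comb_apply, comb_apply, Finset.sum_mul_sum, Finset.mul_sum]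
        refine Finset.sum_congr rfl fun σ _ => ?_
        rw [Finset.mul_sum]
        exact Finset.sum_congr rfl fun τ _ => by ring
    _ = ∑ i, ∑ j, ∑ p : (F ≃+* F) × (F ≃+* F), A i j * (e i p.1 * e j p.2) * (p.1 x * p.2 x) :=
        Finset.sum_congr rfl fun i _ => Finset.sum_congr rfl fun j _ => by rw [Fintype.sum_prod_type]
    _ = ∑ i, ∑ p : (F ≃+* F) × (F ≃+* F), ∑ j, A i j * (e i p.1 * e j p.2) * (p.1 x * p.2 x) :=
        Finset.sum_congr rfl fun i _ => Finset.sum_comm
    _ = ∑ p : (F ≃+* F) × (F ≃+* F), ∑ i, ∑ j, A i j * (e i p.1 * e j p.2) * (p.1 x * p.2 x) :=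
        Finset.sum_comm
    _ = _ := Finset.sum_congr rfl fun p _ => by
        rw [Finset.sum_mul]
        exact Finset.sum_congr rfl fun i _ => (Finset.sum_mul _ _ _).symm

end CfsgLib.RankOne.FieldMaps
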