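/-
The maps attached to the normal form in a split rank one group.
-/
import Cfsg.Agent.Lib.RankOne.Basic

set_option autoImplicit false
set_option linter.unusedSectionVars false

namespace CfsgLib.RankOne

open MulAction Cfsg

variable {G Ω : Type*} [Group G] [Finite G] [MulAction G Ω] {a : Ω} {t : G} {Q : Subgroup G}
  (hS : IsRankOneSetup G Ω a t Q)

include hS

theorem form_props (x g h f : G) (hx : x ∈ Q) (hg : g ∈ Q) (hh : h ∈ D a t) (hf : f ∈ Q)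
    (heq : t * x * t = g * h * t * f) :
    (∀ g₁ h₁ f₁ : G, g₁ ∈ Q → h₁ ∈ D a t → f₁ ∈ Q → t * x⁻¹ * t = g₁ * h₁ * t * f₁ →
        f₁ = g⁻¹ ∧ h₁ = t * h⁻¹ * t) ∧
      (∀ g₂ h₂ f₂ : G, g₂ ∈ Q → h₂ ∈ D a t → f₂ ∈ Q → t * f * t = g₂ * h₂ * t * f₂ → f₂ = x ∧ h₂ = h⁻¹) ∧
      ∀ c ∈ D a t, ∀ g₃ h₃ f₃ : G, g₃ ∈ Q → h₃ ∈ D a t → f₃ ∈ Q → t * (c⁻¹ * x * c) * t = g₃ * h₃ * t * f₃ →
          f₃ = (t * c * t)⁻¹ * f * (t * c * t) ∧ h₃ = (t * c * t)⁻¹ * h * c := by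
  have ht := hS.mul_self
  have hti := inv_t hS
  refine ⟨?_, ?_, ?_⟩
  · intro g₁ h₁ f₁ hg₁ hh₁ hf₁ e
    have e1 : g₁ * h₁ * t * f₁ = f⁻¹ * (t * h⁻¹ * t) * t * g⁻¹ := by
      rw [← e]
      calc t * x⁻¹ * t = (t⁻¹ * x * t⁻¹)⁻¹ := by group
        _ = (g * h * t * f)⁻¹ := by rw [hti, heq]
        _ = f⁻¹ * t⁻¹ * h⁻¹ * g⁻¹ := by group
        _ = _ := by rw [hti]; simp [mul_assoc, ← mul_assoc t t, ht]
    obtain ⟨-, e2, e3⟩ := ghf_unique hS hg₁ hh₁ hf₁ (inv_mem hf) (t_conj_D hS (inv_mem hh)) (inv_mem hg) e1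
    exact ⟨e3, e2⟩
  · intro g₂ h₂ f₂ hg₂ hh₂ hf₂ e
    have hmem : h⁻¹ * g⁻¹ * h ∈ Q := conj_Q' hS ((mem_D hS).mp hh).1 (inv_mem hg)
    have e1 : g₂ * h₂ * t * f₂ = h⁻¹ * g⁻¹ * h * h⁻¹ * t * x := by
      rw [← e]
      calc t * f * t = h⁻¹ * g⁻¹ * (g * h * t * f) * t := by group
        _ = _ := by rw [← heq]; simp [mul_assoc, ht]
    obtain ⟨-, e2, e3⟩ := ghf_unique hS hg₂ hh₂ hf₂ hmem (inv_mem hh) hx e1
    exact ⟨e3, e2⟩
  · intro c hc g₃ h₃ f₃ hg₃ hh₃ hf₃ e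
    set c' := t * c * t with hc'
    have hc'D : c' ∈ D a t := t_conj_D hS hc
    have hc'a := ((mem_D hS).mp hc'D).1
    have hh' : c'⁻¹ * h * c ∈ D a t := mul_mem (mul_mem (inv_mem hc'D) hh) hc
    have e1 : g₃ * h₃ * t * f₃ = c'⁻¹ * g * c' * (c'⁻¹ * h * c) * t * (c'⁻¹ * f * c') := by
      rw [← e]
      have ec : c * t = t * c' := by rw [hc', ← mul_assoc, ← mul_assoc, ht, one_mul]
      have ec' : c'⁻¹ * t = t * c⁻¹ := by
        rw [inv_mul_eq_iff_eq_mul, hc']; simp [mul_assoc, ← mul_assoc t t, ht]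
      calc t * (c⁻¹ * x * c) * t = t * c⁻¹ * x * (c * t) := by group
        _ = c'⁻¹ * (t * x * t) * c' := by rw [ec, ← ec']; group
        _ = _ := by
            rw [heq, show c'⁻¹ * g * c' * (c'⁻¹ * h * c) * t * (c'⁻¹ * f * c') =
              c'⁻¹ * g * h * (c * t) * c'⁻¹ * f * c' by group, ec]
            group
    obtain ⟨-, e2, e3⟩ := ghf_unique hS hg₃ hh₃ hf₃ (conj_Q' hS hc'a hg) hh' (conj_Q' hS hc'a hf) e1
    exact ⟨e3, e2⟩

theorem form_mul (x y gx hx fx gy hy fy : G) (hxQ : x ∈ Q) (hyQ : y ∈ Q) (hxy : x * y ≠ 1)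
    (hgx : gx ∈ Q) (hhx : hx ∈ D a t) (hfx : fx ∈ Q) (ex : t * x * t = gx * hx * t * fx)
    (hgy : gy ∈ Q) (hhy : hy ∈ D a t) (hfy : fy ∈ Q) (ey : t * y * t = gy * hy * t * fy) :
    fx * gy ≠ 1 ∧
      ∀ gz hz fz g' h' f' : G, gz ∈ Q → hz ∈ D a t → fz ∈ Q → t * (fx * gy) * t = gz * hz * t * fz →
        g' ∈ Q → h' ∈ D a t → f' ∈ Q → t * (x * y) * t = g' * h' * t * f' →
          f' = (t * hy * t)⁻¹ * fz * (t * hy * t) * fy ∧ h' = hx * hz * hy := by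
  have ht := hS.mul_self
  have hprod : t * (x * y) * t = gx * hx * t * (fx * gy) * hy * t * fy := by
    calc t * (x * y) * t = (t * x * t) * (t * y * t) := by simp [mul_assoc, ← mul_assoc t t, ht]
      _ = _ := by rw [ex, ey]; group
  refine ⟨fun e => ?_, fun gz hz fz g' h' f' hgz hhz hfz ez hg' hh' hf' e' => ?_⟩
  · rw [e, mul_one] at hprod
    refine hxy (eq_one_of_fix_ta hS (mul_mem hxQ hyQ) ?_)
    have h1 : (t * (x * y) * t) • a = a := by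
      rw [hprod, mul_smul, mem_Q_a hS hfy, mul_smul, mul_smul, mul_smul, mul_smul, ((mem_D hS).mp hhy).2,
        smul_smul_t hS, ((mem_D hS).mp hhx).1, mem_Q_a hS hgx]
    rw [mul_smul, mul_smul] at h1
    have h2 := congrArg (fun p => t • p) h1
    simpa only [smul_smul_t hS] using h2
  · set c := t * hy * t with hc
    have hcD : c ∈ D a t := t_conj_D hS hhy
    have hxa := ((mem_D hS).mp hhx).1
    have e1 : g' * h' * t * f' = gx * (hx * gz * hx⁻¹) * (hx * hz * hy) * t * (c⁻¹ * fz * c * fy) := by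
      rw [← e', hprod]
      calc gx * hx * t * (fx * gy) * hy * t * fy
          = gx * hx * (t * (fx * gy) * t) * (t * hy * t) * fy := by simp [mul_assoc, ← mul_assoc t t, ht]
        _ = gx * hx * gz * hz * (t * c) * (c⁻¹ * fz * c) * fy := by rw [ez, ← hc]; group
        _ = _ := by rw [show t * c = hy * t by rw [hc]; simp [← mul_assoc, ht]]; group
    obtain ⟨-, e2, e3⟩ := ghf_unique hS hg' hh' hf' (mul_mem hgx (conj_Q hS hxa hgz))
      (mul_mem (mul_mem hhx hhz) hhy) (mul_mem (conj_Q' hS ((mem_D hS).mp hcD).1 hfz) hfy) e1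
    exact ⟨e3, e2⟩

end CfsgLib.RankOne
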